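import Groth.Agent.SecGerm.Geom
import Groth.Agent.GrpSchLib.GeomConnFibre
import Groth.Agent.GrpSchLib.FibreIrr
import Groth.Agent.TameExt51.Sch
import Groth.Agent.GeomField.Irreducible
import Mathlib

/-!
# Fibres of smooth morphisms with geometrically connected fibres have generic points
-/

universe u

open CategoryTheory CategoryTheory.Limits AlgebraicGeometry TopologicalSpace

set_option backward.isDefEq.respectTransparency false
set_option linter.style.haveILetI false

namespace Groth.Agent.SecGerm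

/-- A connected locally Noetherian scheme whose local rings are domains is irreducible. -/
theorem exists_generic_of_domain_stalks {Y : Scheme.{u}} [IsLocallyNoetherian Y] [ConnectedSpace Y]
    (h : ∀ y, IsDomain (Y.presheaf.stalk y)) : ∃ η : Y, ∀ y, η ⤳ y := by
  obtain ⟨y₀⟩ := (inferInstance : Nonempty Y)
  obtain ⟨η, -, hη, -⟩ := GeomField.exists_maximal_component y₀
  have huniq : ∀ (ζ ζ' y : Y), (∀ w, w ⤳ ζ → w = ζ) → (∀ w, w ⤳ ζ' → w = ζ') → ζ ⤳ y → ζ' ⤳ y → ζ = ζ' := by
    intro ζ ζ' y hζ hζ' h1 h2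
    haveI := h y
    haveI : IrreducibleSpace ↥(Spec (Y.presheaf.stalk y)) :=
      inferInstanceAs (IrreducibleSpace (PrimeSpectrum _))
    obtain ⟨a, ha⟩ : ζ ∈ Set.range (Y.fromSpecStalk y) := by rw [Scheme.range_fromSpecStalk]; exact h1
    obtain ⟨b, hb⟩ : ζ' ∈ Set.range (Y.fromSpecStalk y) := by rw [Scheme.range_fromSpecStalk]; exact h2
    let g := Y.fromSpecStalk y (genericPoint ↥(Spec (Y.presheaf.stalk y)))
    have e1 : g = ζ := hζ g (ha ▸ (genericPoint_specializes a).map (Y.fromSpecStalk y).continuous)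
    have e2 : g = ζ' := hζ' g (hb ▸ (genericPoint_specializes b).map (Y.fromSpecStalk y).continuous)
    rw [← e1, ← e2]
  have hopen : IsOpen (closure ({η} : Set Y)) := by
    rw [isOpen_iff_forall_mem_open]
    intro z hz
    obtain ⟨V, hV, hzV, -⟩ := exists_isAffineOpen_mem_and_subset (x := z) (U := ⊤) trivial
    haveI : IsNoetherianRing Γ(Y, V) := IsLocallyNoetherian.component_noetherian ⟨V, hV⟩
    haveI : NoetherianSpace V := noetherianSpace_of_isAffineOpen V hV
    let M : Set Y := {ζ | ζ ∈ V ∧ (∀ w, w ⤳ ζ → w = ζ) ∧ ζ ≠ η}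
    have hM : M.Finite := by
      let Φ : Set V → Set Y := fun Z => {ζ | ∃ hζ : ζ ∈ V, closure ({⟨ζ, hζ⟩} : Set V) = Z}
      refine ((NoetherianSpace.finite_irreducibleComponents (α := V)).biUnion (t := fun Z => Φ Z ∩ M) fun Z _ => ?_).subset
        fun ζ hζ => ?_
      · refine Set.Subsingleton.finite fun a ⟨⟨ha, ha'⟩, haM⟩ b ⟨⟨hb, hb'⟩, hbM⟩ => ?_
        have h1 : (⟨a, ha⟩ : V) ⤳ ⟨b, hb⟩ := by
          rw [specializes_iff_mem_closure, ha', ← hb']; exact subset_closure rfl
        exact hbM.2.1 a (h1.map continuous_subtype_val)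
      · simp only [Set.mem_iUnion, Set.mem_inter_iff]
        refine ⟨closure {⟨ζ, hζ.1⟩}, ⟨isIrreducible_singleton.closure, fun Z hZ hle => ?_⟩, ⟨hζ.1, rfl⟩, hζ⟩
        obtain ⟨g, hg⟩ := QuasiSober.sober hZ.closure isClosed_closure
        have h1 : g ⤳ (⟨ζ, hζ.1⟩ : V) := hg.specializes (subset_closure (hle (subset_closure rfl)))
        have h2 : g = ⟨ζ, hζ.1⟩ := Subtype.ext (hζ.2.1 _ (h1.map continuous_subtype_val))
        rw [← h2, hg.def]
        exact subset_closure
    refine ⟨(V : Set Y) \ ⋃ ζ ∈ M, closure {ζ}, ?_, ?_, hzV, ?_⟩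
    · rintro w ⟨hwV, hw⟩
      obtain ⟨ζ, hζw, hζ, -⟩ := GeomField.exists_maximal_component w
      by_contra hne
      have hζη : ζ ≠ η := fun e => hne (e ▸ hζw.mem_closure)
      exact hw (Set.mem_biUnion (show ζ ∈ M from ⟨hζw.mem_open V.2 hwV, hζ, hζη⟩) hζw.mem_closure)
    · exact V.2.sdiff (hM.isClosed_biUnion fun _ _ => isClosed_closure)
    · simp only [Set.mem_iUnion, not_exists]
      intro ζ hζ hζz
      exact hζ.2.2 (huniq ζ η z hζ.2.1 hη (specializes_iff_mem_closure.mpr hζz) (specializes_iff_mem_closure.mpr hz))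
  have huniv : closure ({η} : Set Y) = Set.univ := IsClopen.eq_univ ⟨isClosed_closure, hopen⟩ ⟨η, subset_closure rfl⟩
  exact ⟨η, fun y => specializes_iff_mem_closure.mpr (huniv.ge trivial)⟩

/-- Fibres of smooth morphisms with geometrically connected fibres have generic points. -/
theorem genFib_of_geometricallyConnected {Q T : Scheme.{u}} (p : Q ⟶ T) [Smooth p] [GeometricallyConnected p] :
    GenFib p := by
  intro y₀
  let F := p.fiber (p y₀)
  let g : F ⟶ Spec (CommRingCat.of (T.residueField (p y₀))) := p.fiberToSpecResidueField (p y₀)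
  haveI : Smooth g := MorphismProperty.pullback_snd (P := @Smooth) _ _ ‹Smooth p›
  haveI : IsLocallyNoetherian F := LocallyOfFiniteType.isLocallyNoetherian g
  obtain ⟨η, hη⟩ := exists_generic_of_domain_stalks (Y := F) fun x => by
    haveI := TameExt51.isRegularLocalRing_stalk g x
    exact RegLoc6.isDomain_of_isRegularLocalRing _
  have hmem : ∀ x : F, p (p.fiberι (p y₀) x) = p y₀ := fun x => by
    have h : p.fiberι (p y₀) x ∈ p ⁻¹' {p y₀} := (p.range_fiberι (p y₀)).le ⟨x, rfl⟩
    exact h
  refine ⟨p.fiberι (p y₀) η, hmem η, fun y hy => ?_⟩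
  obtain ⟨x, rfl⟩ : y ∈ Set.range (p.fiberι (p y₀)) := (p.range_fiberι (p y₀)).ge hy
  exact (hη x).map (p.fiberι (p y₀)).continuous

/-- Connected geometric fibres give geometric connectedness. -/
theorem geometricallyConnected_of_geomPt {X S : Scheme.{u}} (f : X ⟶ S)
    (hconn : ∀ s : S, ConnectedSpace ↥(pullback f (Red.geomPt s))) : GeometricallyConnected f := by
  refine ⟨geometrically_iff_of_isClosedUnderIsomorphisms.mpr fun K _ x => ?_⟩
  let L := AlgebraicClosure K
  let c : Spec (CommRingCat.of L) ⟶ Spec (CommRingCat.of K) := Spec.map (CommRingCat.ofHom (algebraMap K L))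
  obtain ⟨s, φ, hφ⟩ : ∃ (s : S) (φ : S.residueField s →+* L),
      c ≫ x = Spec.map (CommRingCat.ofHom φ) ≫ S.fromSpecResidueField s := by
    obtain ⟨s, φ, hφ⟩ : ∃ (s : S) (φ : S.residueField s ⟶ CommRingCat.of L),
        c ≫ x = Spec.map φ ≫ S.fromSpecResidueField s :=
      ⟨_, _, ((Scheme.SpecToEquivOfField L S).symm_apply_apply (c ≫ x)).symm⟩
    exact ⟨s, φ.hom, hφ⟩
  haveI : ConnectedSpace ↥(pullback f (c ≫ x)) := by
    rw [hφ]; exact GrpSchLib.GeomConnFibre.connected_pullback f hconn φ
  haveI : Surjective c := ⟨fun z => ⟨IsLocalRing.closedPoint L, Subsingleton.elim (α := PrimeSpectrum K) _ _⟩⟩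
  haveI : ConnectedSpace ↥(pullback (pullback.snd f x) c) := by
    let i := pullbackLeftPullbackSndIso f x c
    exact i.inv.homeomorph.surjective.connectedSpace i.inv.homeomorph.continuous
  exact (pullback.fst (pullback.snd f x) c).surjective.connectedSpace (pullback.fst (pullback.snd f x) c).continuous

/-- A group scheme locally of finite type with connected fibres is geometrically connected. -/
theorem geometricallyConnected_group {S : Scheme.{u}} (G : Over S) [GrpObj G] [LocallyOfFiniteType G.hom]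
    (hconn : ∀ s : S, ConnectedSpace ↥(pullback G.hom (S.fromSpecResidueField s))) :
    GeometricallyConnected G.hom := by
  refine (GeometricallyConnected.iff_geometricallyConnected_fiber (f := G.hom)).mpr fun s => ?_
  haveI := hconn s
  have hc : _root_.IsConnected (G.hom ⁻¹' {s}) := by
    rw [← GrpSchLib.FibreIrr.range_fst]
    exact isConnected_range (pullback.fst G.hom (S.fromSpecResidueField s)).continuous
  haveI hgi : GeometricallyIrreducible (G.hom.fiberToSpecResidueField s) :=
    (GrpSchLib.FibreIrr.geometricallyIrreducible_fib G s hc).1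
  refine ⟨geometrically_iff_of_isClosedUnderIsomorphisms.mpr fun K _ x => ?_⟩
  haveI : IrreducibleSpace ↥(pullback (G.hom.fiberToSpecResidueField s) x) :=
    GeometricallyIrreducible.geometrically_irreducibleSpace _ _ _ (IsPullback.of_hasPullback _ _)
  exact inferInstanceAs (ConnectedSpace _)

end Groth.Agent.SecGerm
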