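import Groth.Agent.SecGerm.GroupClosed
import Groth.Agent.MultDefLib.Transp
import Groth.Agent.GrpSchLib.HomUnitLocus
import Groth.Agent.GrpSchLib.CoincidenceBase
import Groth.Agent.S4599
import Groth.Prelude.Def_Red2
import Mathlib

/-!
# Transporters along a smooth group with connected fibres
-/

universe u

open CategoryTheory CategoryTheory.Limits MonoidalCategory CartesianMonoidalCategory AlgebraicGeometry
open scoped MonObj

set_option backward.isDefEq.respectTransparency false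
set_option linter.style.haveILetI false

namespace Groth.Agent.SecGerm

variable {S : Scheme.{u}} {G H : Over S}

/-- The tautological point of the base, read over `S`. -/
abbrev basePt (P : Over G.left) : (Over.map G.hom).obj P ⟶ G := Over.homMk P.hom rfl

set_option maxHeartbeats 1000000 in
set_option synthInstance.maxHeartbeats 400000 in
/-- The points `x` of `G` such that all of `H` lands in `E` over `x`, when `E` is fibrewise a subgroup. -/
theorem exists_closed_transporter [GrpObj H] [Smooth H.hom] [QuasiSeparated H.hom] [GeometricallyConnected H.hom]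
    {E : Over S} (ie : E ⟶ H ⊗ G) [Mono ie] [LocallyOfFinitePresentation ie.left] [QuasiCompact ie.left]
    (h1 : ∀ (P : Over S) (g : P ⟶ G), ∃ m : P ⟶ E, m ≫ ie = lift 1 g)
    (hmul : ∀ (P : Over S) (h h' : P ⟶ H) (g : P ⟶ G), (∃ m : P ⟶ E, m ≫ ie = lift h g) →
      (∃ m : P ⟶ E, m ≫ ie = lift h' g) → ∃ m : P ⟶ E, m ≫ ie = lift (h * h') g)
    (hinv : ∀ (P : Over S) (h : P ⟶ H) (g : P ⟶ G), (∃ m : P ⟶ E, m ≫ ie = lift h g) →
      ∃ m : P ⟶ E, m ≫ ie = lift h⁻¹ g) :
    ∃ (Z : Over S) (c : Z ⟶ G), IsClosedImmersion c.left ∧ LocallyOfFinitePresentation c.left ∧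
      ∀ (X : Over S) (x : X ⟶ G), (∃ z : X ⟶ Z, z ≫ c = x) ↔ ∃ m : H ⊗ X ⟶ E, m ≫ ie = H ◁ x := by
  haveI : Mono ie.left := inferInstanceAs (Mono ((Over.forget S).map ie))
  let Yg : Over G.left := Over.mk (ie ≫ snd H G).left
  let j : Yg ⟶ Red.bc G.hom H := Over.homMk ie.left rfl
  haveI : Mono j := (Over.forget G.left).mono_of_mono_map (show Mono j.left from ‹Mono ie.left›)
  let Qp : ∀ (P : Over G.left), (P ⟶ Red.bc G.hom H) → Prop := fun P h =>
    ∃ m : (Over.map G.hom).obj P ⟶ E, m ≫ ie = lift (DSPtsLib.theta G.hom h) (basePt P)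
  have hlift : ∀ (P : Over G.left) (h : P ⟶ Red.bc G.hom H),
      (lift (DSPtsLib.theta G.hom h) (basePt P)).left = h.left := by
    intro P h
    apply pullback.hom_ext
    · exact (congrArg CommaMorphism.left (lift_fst (DSPtsLib.theta G.hom h) (basePt P))).trans
        (DSPtsLib.theta_left G.hom h)
    · exact (congrArg CommaMorphism.left (lift_snd (DSPtsLib.theta G.hom h) (basePt P))).trans (Over.w h).symm
  have hQ : ∀ (P : Over G.left) (h : P ⟶ Red.bc G.hom H), (∃ z : P ⟶ Yg, z ≫ j = h) ↔ Qp P h := by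
    intro P h
    constructor
    · rintro ⟨z, rfl⟩
      refine ⟨Over.homMk z.left ?_, Over.OverMorphism.ext ?_⟩
      · show z.left ≫ E.hom = P.hom ≫ G.hom
        rw [← Over.w z]
        show _ = (z.left ≫ (ie ≫ snd H G).left) ≫ G.hom
        rw [Category.assoc, Over.w (ie ≫ snd H G)]
      · rw [hlift]; rfl
    · rintro ⟨m, hm⟩
      refine ⟨Over.homMk m.left ?_, Over.OverMorphism.ext ?_⟩
      · show m.left ≫ (ie ≫ snd H G).left = P.hom
        rw [← Over.comp_left, reassoc_of% hm, lift_snd]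
        rfl
      · show m.left ≫ ie.left = h.left
        rw [← Over.comp_left, hm, hlift]
  have hone : ∀ P : Over G.left, DSPtsLib.theta G.hom (1 : P ⟶ Red.bc G.hom H) = 1 := fun P =>
    GrpSchLib.HomUnitLocus.theta_one G.hom P
  obtain ⟨str, hj⟩ := MultDefLib.exists_grpObj_of_locus j Qp hQ
    (fun P => by show ∃ m, _; rw [hone]; exact h1 _ _)
    (fun P a b ha hb => by show ∃ m, _; rw [DSPtsLib.theta_mul]; exact hmul _ _ _ _ ha hb)
    (fun P a ha => by
      show ∃ m, _
      rw [show DSPtsLib.theta G.hom a⁻¹ = (DSPtsLib.theta G.hom a)⁻¹ from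
        eq_inv_of_mul_eq_one_left (by rw [← DSPtsLib.theta_mul, inv_mul_cancel, hone])]
      exact hinv _ _ _ ha)
  letI := str
  haveI := hj
  haveI : Smooth (Red.bc G.hom H).hom := MorphismProperty.pullback_snd (P := @Smooth) _ _ ‹Smooth H.hom›
  haveI : QuasiSeparated (Red.bc G.hom H).hom :=
    MorphismProperty.pullback_snd (P := @QuasiSeparated) _ _ ‹QuasiSeparated H.hom›
  haveI : GeometricallyConnected (Red.bc G.hom H).hom :=
    MorphismProperty.pullback_snd (P := @GeometricallyConnected) _ _ ‹GeometricallyConnected H.hom›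
  haveI : LocallyOfFinitePresentation Yg.hom := by
    show LocallyOfFinitePresentation (ie ≫ snd H G).left
    rw [Over.comp_left]
    haveI : LocallyOfFinitePresentation (snd H G).left :=
      inferInstanceAs (LocallyOfFinitePresentation (pullback.snd H.hom G.hom))
    infer_instance
  obtain ⟨Z, z, hz, hfp, hfac⟩ := exists_closed_subgroup (X := Red.bc G.hom H) j
  refine ⟨Over.mk (z ≫ G.hom), Over.homMk z rfl, hz, hfp, fun X x => ?_⟩
  have h2 := GrpSchLib.good_iff_whiskerLeft (W := H) ie.left x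
  refine Iff.trans ?_ ((hfac X.left x.left).trans (h2.trans ?_))
  · constructor
    · rintro ⟨w, rfl⟩; exact ⟨w.left, rfl⟩
    · rintro ⟨w, hw⟩
      exact ⟨Over.homMk w (by show w ≫ z ≫ G.hom = _; rw [← Category.assoc, hw, Over.w x]), Over.OverMorphism.ext hw⟩
  · constructor
    · rintro ⟨l, hl⟩
      exact ⟨Over.homMk l (by rw [← Over.w ie, ← Category.assoc, hl, Over.w]), Over.OverMorphism.ext hl⟩
    · rintro ⟨m, hm⟩
      exact ⟨m.left, congrArg CommaMorphism.left hm⟩

theorem whiskerLeft_mem_iff {E : Over S} (ie : E ⟶ H ⊗ G) {X : Over S} (x : X ⟶ G)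
    (Q : ∀ P : Over S, (P ⟶ H) → (P ⟶ G) → Prop)
    (hE : ∀ (P : Over S) (h : P ⟶ H) (g : P ⟶ G), (∃ m : P ⟶ E, m ≫ ie = lift h g) ↔ Q P h g) :
    (∃ m : H ⊗ X ⟶ E, m ≫ ie = H ◁ x) ↔ ∀ (X' : Over S) (t : X' ⟶ X) (h : X' ⟶ H), Q X' h (t ≫ x) := by
  constructor
  · rintro ⟨m, hm⟩ X' t h
    exact (hE X' h (t ≫ x)).mp ⟨lift h t ≫ m, by rw [Category.assoc, hm, lift_whiskerLeft]⟩
  · intro h
    obtain ⟨m, hm⟩ := (hE (H ⊗ X) (fst H X) (snd H X ≫ x)).mpr (h _ (snd H X) (fst H X))
    exact ⟨m, hm.trans (by apply CartesianMonoidalCategory.hom_ext <;> simp)⟩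

theorem qcompact_diagonal {Q : Scheme.{u}} (f : Q ⟶ S) [QuasiSeparated f] :
    QuasiCompact (pullback.diagonal f) := QuasiSeparated.quasiCompact_diagonal

set_option maxHeartbeats 1000000 in
/-- The centraliser of a smooth subgroup with connected fibres is a closed subgroup. -/
theorem exists_centralizer [GrpObj G] [GrpObj H] [LocallyOfFiniteType G.hom] [QuasiSeparated G.hom] [Smooth H.hom]
    [QuasiSeparated H.hom] [GeometricallyConnected H.hom] (i : H ⟶ G) [IsMonHom i] :
    ∃ (Z : Over S) (_ : GrpObj Z) (j : Z ⟶ G), Red.IsCentralizerOf i j ∧ IsClosedImmersion j.left ∧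
      LocallyOfFinitePresentation j.left := by
  let a : H ⊗ G ⟶ G := (fst H G ≫ i) * snd H G
  let b : H ⊗ G ⟶ G := snd H G * (fst H G ≫ i)
  have hab : a.left ≫ G.hom = b.left ≫ G.hom := (Over.w a).trans (Over.w b).symm
  let e := pullback.fst (pullback.lift a.left b.left hab) (pullback.diagonal G.hom)
  let E : Over S := Over.mk (e ≫ (H ⊗ G).hom)
  let ie : E ⟶ H ⊗ G := Over.homMk e rfl
  haveI : Mono e := inferInstanceAs (Mono (pullback.fst _ _))
  haveI : Mono ie := (Over.forget S).mono_of_mono_map (show Mono ie.left from ‹Mono e›)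
  haveI : LocallyOfFinitePresentation ie.left :=
    MorphismProperty.pullback_fst (P := @LocallyOfFinitePresentation) _ _ (S4599.result G.hom)
  haveI : QuasiCompact ie.left :=
    MorphismProperty.pullback_fst (P := @QuasiCompact) _ _ (qcompact_diagonal G.hom)
  have hE : ∀ (P : Over S) (h : P ⟶ H) (g : P ⟶ G),
      (∃ m : P ⟶ E, m ≫ ie = lift h g) ↔ Commute (h ≫ i) g := by
    intro P h g
    have h0 : Commute (h ≫ i) g ↔ lift h g ≫ a = lift h g ≫ b := by
      simp only [a, b, MonObj.comp_mul, lift_fst_assoc, lift_snd]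
      exact Iff.rfl
    rw [h0]
    constructor
    · rintro ⟨m, hm⟩
      apply Over.OverMorphism.ext
      rw [Over.comp_left, Over.comp_left]
      exact (GrpSchLib.factors_equalizer_iff G.hom a.left b.left hab _).mp ⟨m.left, congrArg CommaMorphism.left hm⟩
    · intro hh
      obtain ⟨m, hm⟩ := (GrpSchLib.factors_equalizer_iff G.hom a.left b.left hab (lift h g).left).mpr
        (by rw [← Over.comp_left, ← Over.comp_left, hh])
      exact ⟨Over.homMk m (by show m ≫ e ≫ _ = _; rw [← Category.assoc, hm, Over.w]), Over.OverMorphism.ext hm⟩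
  obtain ⟨Z, c, hc, hfp, hZ⟩ := exists_closed_transporter ie
    (fun P g => (hE P 1 g).mpr (by rw [MonObj.one_comp]; exact Commute.one_left g))
    (fun P h h' g k k' => (hE P _ g).mpr (by
      rw [MonObj.mul_comp]; exact Commute.mul_left ((hE P h g).mp k) ((hE P h' g).mp k')))
    (fun P h g k => (hE P _ g).mpr (by rw [GrpObj.inv_comp]; exact ((hE P h g).mp k).inv_left))
  haveI := hc
  haveI : Mono c := (Over.forget S).mono_of_mono_map (show Mono c.left from inferInstance)
  have key : ∀ (X : Over S) (g : X ⟶ G), (∃ z : X ⟶ Z, z ≫ c = g) ↔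
      ∀ (X' : Over S) (x : X' ⟶ X) (h : X' ⟶ H), Commute (x ≫ g) (h ≫ i) := fun X g => by
    rw [hZ, whiskerLeft_mem_iff ie g (fun P h g => Commute (h ≫ i) g) hE]
    exact forall_congr' fun _ => forall_congr' fun _ => forall_congr' fun _ => ⟨Commute.symm, Commute.symm⟩
  obtain ⟨str, hj⟩ := MultDefLib.exists_grpObj_of_locus c
    (fun X g => ∀ (X' : Over S) (x : X' ⟶ X) (h : X' ⟶ H), Commute (x ≫ g) (h ≫ i)) key
    (fun X X' x h => by rw [MonObj.comp_one]; exact Commute.one_left _)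
    (fun X g g' k k' X' x h => by rw [MonObj.comp_mul]; exact Commute.mul_left (k X' x h) (k' X' x h))
    (fun X g k X' x h => by rw [GrpObj.comp_inv]; exact (k X' x h).inv_left)
  exact ⟨Z, str, c, ⟨hj, inferInstance, key⟩, hc, hfp⟩

set_option maxHeartbeats 1000000 in
/-- The normaliser of a smooth subgroup with connected fibres is a closed subgroup. -/
theorem exists_normalizer [GrpObj G] [GrpObj H] [LocallyOfFiniteType G.hom] [QuasiSeparated G.hom] [Smooth H.hom]
    [QuasiCompact H.hom] [QuasiSeparated H.hom] [GeometricallyConnected H.hom] (i : H ⟶ G) [IsMonHom i] [Mono i] :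
    ∃ (Z : Over S) (_ : GrpObj Z) (j : Z ⟶ G), Red.IsNormalizerOf i j ∧ IsClosedImmersion j.left ∧
      LocallyOfFinitePresentation j.left := by
  let a : H ⊗ G ⟶ G := snd H G * (fst H G ≫ i) * (snd H G)⁻¹
  let b : H ⊗ G ⟶ G := (snd H G)⁻¹ * (fst H G ≫ i) * snd H G
  haveI : Mono i.left := inferInstanceAs (Mono ((Over.forget S).map i))
  haveI : LocallyOfFinitePresentation i.left := by
    haveI : LocallyOfFinitePresentation (i.left ≫ G.hom) := by rw [Over.w i]; infer_instance
    exact AlgSpPts.locallyOfFinitePresentation_of_comp i.left G.hom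
  haveI : QuasiCompact i.left := by
    haveI : QuasiCompact (i.left ≫ G.hom) := by rw [Over.w i]; infer_instance
    exact QuasiCompact.of_comp i.left G.hom
  let e₁ := pullback.fst a.left i.left
  let e₂ := pullback.fst (e₁ ≫ b.left) i.left
  let E : Over S := Over.mk ((e₂ ≫ e₁) ≫ (H ⊗ G).hom)
  let ie : E ⟶ H ⊗ G := Over.homMk (e₂ ≫ e₁) rfl
  haveI : Mono e₁ := inferInstanceAs (Mono (pullback.fst _ _))
  haveI : Mono e₂ := inferInstanceAs (Mono (pullback.fst _ _))
  haveI : Mono ie := (Over.forget S).mono_of_mono_map (show Mono ie.left from inferInstanceAs (Mono (e₂ ≫ e₁)))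
  haveI h11 : LocallyOfFinitePresentation e₁ := MorphismProperty.pullback_fst _ _ ‹LocallyOfFinitePresentation i.left›
  haveI h12 : LocallyOfFinitePresentation e₂ := MorphismProperty.pullback_fst _ _ ‹LocallyOfFinitePresentation i.left›
  haveI h21 : QuasiCompact e₁ := MorphismProperty.pullback_fst _ _ ‹QuasiCompact i.left›
  haveI h22 : QuasiCompact e₂ := MorphismProperty.pullback_fst _ _ ‹QuasiCompact i.left›
  haveI : LocallyOfFinitePresentation ie.left := inferInstanceAs (LocallyOfFinitePresentation (e₂ ≫ e₁))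
  haveI : QuasiCompact ie.left := inferInstanceAs (QuasiCompact (e₂ ≫ e₁))
  let Q : ∀ P : Over S, (P ⟶ H) → (P ⟶ G) → Prop := fun P h g =>
    (∃ k : P ⟶ H, g * (h ≫ i) * g⁻¹ = k ≫ i) ∧ ∃ k : P ⟶ H, g⁻¹ * (h ≫ i) * g = k ≫ i
  have hE : ∀ (P : Over S) (h : P ⟶ H) (g : P ⟶ G), (∃ m : P ⟶ E, m ≫ ie = lift h g) ↔ Q P h g := by
    intro P h g
    have ha : lift h g ≫ a = g * (h ≫ i) * g⁻¹ := by simp [a, MonObj.comp_mul, GrpObj.comp_inv]
    have hb : lift h g ≫ b = g⁻¹ * (h ≫ i) * g := by simp [b, MonObj.comp_mul, GrpObj.comp_inv]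
    show _ ↔ _ ∧ _
    rw [← ha, ← hb]
    constructor
    · rintro ⟨m, hm⟩
      have hml : (lift h g).left = m.left ≫ e₂ ≫ e₁ := (congrArg CommaMorphism.left hm).symm
      refine ⟨⟨Over.homMk (m.left ≫ e₂ ≫ pullback.snd a.left i.left) ?_, Over.OverMorphism.ext ?_⟩,
        ⟨Over.homMk (m.left ≫ pullback.snd (e₁ ≫ b.left) i.left) ?_, Over.OverMorphism.ext ?_⟩⟩
      · rw [← Over.w i, Category.assoc, Category.assoc, ← pullback.condition_assoc, Over.w a, ← Over.w (lift h g), hml]
        simp only [e₁, Category.assoc]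
      · show (lift h g).left ≫ a.left = (m.left ≫ e₂ ≫ pullback.snd a.left i.left) ≫ i.left
        rw [hml]
        simp only [e₁, Category.assoc, pullback.condition]
      · rw [← Over.w i, Category.assoc, ← pullback.condition_assoc, Category.assoc, Over.w b, ← Over.w (lift h g), hml]
        simp only [e₂, Category.assoc]
      · show (lift h g).left ≫ b.left = (m.left ≫ pullback.snd (e₁ ≫ b.left) i.left) ≫ i.left
        rw [hml]
        simp only [Category.assoc, ← pullback.condition]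
        rfl
    · rintro ⟨⟨k, hk⟩, ⟨k', hk'⟩⟩
      let m₁ := pullback.lift (lift h g).left k.left (congrArg CommaMorphism.left hk)
      have hm1 : m₁ ≫ e₁ = (lift h g).left := pullback.lift_fst _ _ _
      let m := pullback.lift m₁ k'.left (show m₁ ≫ e₁ ≫ b.left = k'.left ≫ i.left by
        rw [← Category.assoc, hm1]; exact congrArg CommaMorphism.left hk')
      have hm : m ≫ e₂ ≫ e₁ = (lift h g).left := by rw [pullback.lift_fst_assoc, hm1]
      exact ⟨Over.homMk m (by show m ≫ (e₂ ≫ e₁) ≫ _ = _; rw [← Category.assoc, hm, Over.w]),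
        Over.OverMorphism.ext hm⟩
  obtain ⟨Z, c, hc, hfp, hZ⟩ := exists_closed_transporter ie
    (fun P g => (hE P 1 g).mpr ⟨⟨1, by rw [MonObj.one_comp]; group⟩, ⟨1, by rw [MonObj.one_comp]; group⟩⟩)
    (fun P h h' g k k' => (hE P _ g).mpr (by
      obtain ⟨⟨u, hu⟩, ⟨v, hv⟩⟩ := (hE P h g).mp k
      obtain ⟨⟨u', hu'⟩, ⟨v', hv'⟩⟩ := (hE P h' g).mp k'
      exact ⟨⟨u * u', by rw [MonObj.mul_comp, MonObj.mul_comp, ← hu, ← hu']; group⟩,
        ⟨v * v', by rw [MonObj.mul_comp, MonObj.mul_comp, ← hv, ← hv']; group⟩⟩))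
    (fun P h g k => (hE P _ g).mpr (by
      obtain ⟨⟨u, hu⟩, ⟨v, hv⟩⟩ := (hE P h g).mp k
      exact ⟨⟨u⁻¹, by rw [GrpObj.inv_comp, GrpObj.inv_comp, ← hu]; group⟩,
        ⟨v⁻¹, by rw [GrpObj.inv_comp, GrpObj.inv_comp, ← hv]; group⟩⟩))
  haveI := hc
  haveI : Mono c := (Over.forget S).mono_of_mono_map (show Mono c.left from inferInstance)
  let N : ∀ X : Over S, (X ⟶ G) → Prop := fun X g => ∀ (X' : Over S) (x : X' ⟶ X) (h : X' ⟶ H), Q X' h (x ≫ g)
  have key : ∀ (X : Over S) (g : X ⟶ G), (∃ z : X ⟶ Z, z ≫ c = g) ↔ N X g := fun X g =>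
    (hZ X g).trans (whiskerLeft_mem_iff ie g Q hE)
  obtain ⟨str, hj⟩ := MultDefLib.exists_grpObj_of_locus c N key
    (fun X X' x h => ⟨⟨h, by rw [MonObj.comp_one]; group⟩, ⟨h, by rw [MonObj.comp_one]; group⟩⟩)
    (fun X g g' k k' X' x h => by
      obtain ⟨⟨u, hu⟩, -⟩ := k' X' x h
      obtain ⟨⟨u', hu'⟩, -⟩ := k X' x u
      obtain ⟨-, ⟨v, hv⟩⟩ := k X' x h
      obtain ⟨-, ⟨v', hv'⟩⟩ := k' X' x v
      exact ⟨⟨u', by rw [← hu', ← hu, MonObj.comp_mul]; group⟩, ⟨v', by rw [← hv', ← hv, MonObj.comp_mul]; group⟩⟩)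
    (fun X g k X' x h => by
      obtain ⟨⟨u, hu⟩, ⟨v, hv⟩⟩ := k X' x h
      exact ⟨⟨v, by rw [← hv, GrpObj.comp_inv]; group⟩, ⟨u, by rw [← hu, GrpObj.comp_inv]; group⟩⟩)
  exact ⟨Z, str, c, ⟨hj, inferInstance, key⟩, hc, hfp⟩

end Groth.Agent.SecGerm
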