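import Groth.Agent.SecGerm.Geom
import Mathlib

/-!
# Weil restriction of closed subschemes along smooth surjective morphisms with irreducible fibres
-/

universe u

open CategoryTheory CategoryTheory.Limits AlgebraicGeometry TopologicalSpace

set_option backward.isDefEq.respectTransparency false
set_option linter.style.haveILetI false

namespace Groth.Agent.SecGerm

open GrpSchLib

variable {P X Y : Scheme.{u}}

/-- Around every point of `X` there is a basic open over which the section lands in an affine chart. -/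
theorem exists_sectionChart (π : P ⟶ X) (σ : X ⟶ P) (hσ : σ ≫ π = 𝟙 X) {U : X.Opens} (hU : IsAffineOpen U)
    (x : X) (hx : x ∈ U) :
    ∃ f : Γ(X, U), x ∈ X.basicOpen f ∧ ∃ V : P.Opens, IsAffineOpen V ∧ V ≤ π ⁻¹ᵁ X.basicOpen f ∧
      X.basicOpen f ≤ σ ⁻¹ᵁ V := by
  have hsec : ∀ z : X, π (σ z) = z := fun z => by rw [← Scheme.Hom.comp_apply, hσ]; rfl
  obtain ⟨V₀, hV₀, hxV₀, hV₀U⟩ := exists_isAffineOpen_mem_and_subset (x := σ x) (U := π ⁻¹ᵁ U)
    (show π (σ x) ∈ U by rw [hsec]; exact hx)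
  obtain ⟨f, hf, hxf⟩ := hU.exists_basicOpen_le (V := σ ⁻¹ᵁ V₀) ⟨x, hxV₀⟩ hx
  have hVeq : P.basicOpen (π.appLE U V₀ hV₀U f) = V₀ ⊓ π ⁻¹ᵁ X.basicOpen f :=
    Scheme.basicOpen_appLE π V₀ U hV₀U f
  refine ⟨f, hxf, P.basicOpen (π.appLE U V₀ hV₀U f), hV₀.basicOpen _, hVeq.le.trans inf_le_right, fun z hz => ?_⟩
  show σ z ∈ P.basicOpen _
  rw [hVeq]
  exact ⟨hf hz, by show π (σ z) ∈ X.basicOpen f; rw [hsec]; exact hz⟩

/-- A universal ideal over an affine open into an affine chart of which the section maps. -/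
theorem hasIdeal_of_sectionChart (π : P ⟶ X) [Smooth π] (σ : X ⟶ P) (hσ : σ ≫ π = 𝟙 X) (i : Y ⟶ P)
    [IsClosedImmersion i] (hgen : ∀ {T : Scheme.{u}} (g : T ⟶ X), GenFib (pullback.fst g π))
    {D : X.Opens} (hD : IsAffineOpen D) {V : P.Opens} (hV : IsAffineOpen V) (hVD : V ≤ π ⁻¹ᵁ D)
    (hDV : D ≤ σ ⁻¹ᵁ V) :
    ∃ I : Ideal Γ(X, D), HasIdeal π i hD.fromSpec I ∧ (LocallyOfFinitePresentation i → I.FG) := by
  letI := (π.appLE D V hVD).hom.toAlgebra
  haveI : Algebra.Smooth Γ(X, D) Γ(P, V) := by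
    rw [← RingHom.smooth_algebraMap, RingHom.algebraMap_toAlgebra]
    exact π.smooth_appLE hD hV hVD
  have hcomp : π.appLE D V hVD ≫ σ.appLE V D hDV = 𝟙 _ := by
    apply Spec.map_injective
    rw [Spec.map_comp, Spec.map_id, ← cancel_mono hD.fromSpec, Category.assoc,
      IsAffineOpen.SpecMap_appLE_fromSpec π hD hV hVD, ← Category.assoc,
      IsAffineOpen.SpecMap_appLE_fromSpec σ hV hD hDV, Category.assoc, hσ, Category.comp_id, Category.id_comp]
  let s : Γ(P, V) →ₐ[Γ(X, D)] Γ(X, D) :=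
    { (σ.appLE V D hDV).hom with
      commutes' := fun r => RingHom.congr_fun (congrArg CommRingCat.Hom.hom hcomp) r }
  let v : Spec (CommRingCat.of Γ(P, V)) ⟶ pullback hD.fromSpec π :=
    pullback.lift (Spec.map (π.appLE D V hVD)) hV.fromSpec (IsAffineOpen.SpecMap_appLE_fromSpec π hD hV hVD)
  haveI : IsOpenImmersion (v ≫ pullback.snd hD.fromSpec π) := by rw [pullback.lift_snd]; infer_instance
  haveI : IsOpenImmersion v := IsOpenImmersion.of_comp v (pullback.snd hD.fromSpec π)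
  refine hasIdeal_of_chart π i hgen hD.fromSpec v ?_ s
  rw [pullback.lift_fst, RingHom.algebraMap_toAlgebra, CommRingCat.ofHom_hom]

/-- Weil restriction of a closed subscheme along a smooth morphism with a section and irreducible fibres. -/
theorem exists_closed_of_section (π : P ⟶ X) [Smooth π] (σ : X ⟶ P) (hσ : σ ≫ π = 𝟙 X) (i : Y ⟶ P)
    [IsClosedImmersion i] (hgen : ∀ {T : Scheme.{u}} (g : T ⟶ X), GenFib (pullback.fst g π)) :
    ∃ (Z : Scheme.{u}) (z : Z ⟶ X), IsClosedImmersion z ∧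
      (∀ (T : Scheme.{u}) (g : T ⟶ X), (∃ w : T ⟶ Z, w ≫ z = g) ↔ Good π i g) ∧
      (LocallyOfFinitePresentation i → LocallyOfFinitePresentation z) := by
  have hloc : ∀ (U : X.affineOpens) (f : Γ(X, U.1)) (V : P.Opens), IsAffineOpen V → V ≤ π ⁻¹ᵁ X.basicOpen f →
      X.basicOpen f ≤ σ ⁻¹ᵁ V → ∃ I : Ideal (Localization.Away f),
        HasIdeal π i (Spec.map (CommRingCat.ofHom (algebraMap Γ(X, U.1) (Localization.Away f))) ≫ U.2.fromSpec) I := by
    intro U f V hV h1 h2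
    obtain ⟨I, hI, -⟩ := hasIdeal_of_sectionChart π σ hσ i hgen (U.2.basicOpen f) hV h1 h2
    haveI := U.2.isLocalization_basicOpen f
    let e : Γ(X, X.basicOpen f) ≃ₐ[Γ(X, U.1)] Localization.Away f :=
      IsLocalization.algEquiv (Submonoid.powers f) _ _
    have h3 := hI.map e.toRingEquiv.toRingHom
    have he : Spec.map (CommRingCat.ofHom e.toRingEquiv.toRingHom) ≫ (U.2.basicOpen f).fromSpec =
        Spec.map (CommRingCat.ofHom (algebraMap Γ(X, U.1) (Localization.Away f))) ≫ U.2.fromSpec := by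
      rw [← IsAffineOpen.map_fromSpec U.2 (U.2.basicOpen f) (homOfLE (X.basicOpen_le f)).op, ← Category.assoc,
        ← Spec.map_comp]
      congr 2
      ext r
      exact e.commutes r
    rw [he] at h3
    exact ⟨_, h3⟩
  have hI : HasIdeals π i := by
    intro U
    let good : Set Γ(X, U.1) :=
      {f | ∃ V : P.Opens, IsAffineOpen V ∧ V ≤ π ⁻¹ᵁ X.basicOpen f ∧ X.basicOpen f ≤ σ ⁻¹ᵁ V}
    have hspan : Ideal.span good = ⊤ := by
      rw [← U.2.self_le_iSup_basicOpen_iff]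
      intro x hx
      obtain ⟨f, hxf, hf⟩ := exists_sectionChart π σ hσ U.2 x hx
      exact Opens.mem_iSup.mpr ⟨⟨f, hf⟩, hxf⟩
    exact hasIdeal_of_span U.2.fromSpec good hspan fun ⟨f, V, hV, h1, h2⟩ => hloc U f V hV h1 h2
  obtain ⟨Z, z, hz, hfac⟩ := exists_weilRestriction hI
  refine ⟨Z, z, hz, hfac, fun hi => ?_⟩
  haveI := hz
  refine locallyOfFinitePresentation_of_hasIdeal hfac fun x => ?_
  obtain ⟨U, hU, hxU, -⟩ := exists_isAffineOpen_mem_and_subset (x := x) (U := ⊤) trivial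
  obtain ⟨f, hxf, V, hV, h1, h2⟩ := exists_sectionChart π σ hσ hU x hxU
  obtain ⟨I, hI', hfg⟩ := hasIdeal_of_sectionChart π σ hσ i hgen (hU.basicOpen f) hV h1 h2
  exact ⟨_, inferInstance, (hU.basicOpen f).fromSpec, inferInstance,
    (hU.basicOpen f).range_fromSpec.ge hxf, I, hI', hfg hi⟩

/-- Weil restriction of a closed subscheme along a smooth surjective morphism with irreducible fibres. -/
theorem exists_closed_smooth {S : Scheme.{u}} (f : X ⟶ S) [Smooth f] [Surjective f] (y : Y ⟶ X)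
    [IsClosedImmersion y] (hgen : ∀ {T : Scheme.{u}} (g : T ⟶ X), GenFib (pullback.fst g (pullback.fst f f))) :
    ∃ (T : Scheme.{u}) (t : T ⟶ S), IsClosedImmersion t ∧
      (∀ (S' : Scheme.{u}) (g : S' ⟶ S), (∃ g' : S' ⟶ T, g' ≫ t = g) ↔ Good f y g) ∧
      (LocallyOfFinitePresentation y → LocallyOfFinitePresentation t) := by
  let π := pullback.fst f f
  let i : pullback (pullback.snd f f) y ⟶ pullback f f := pullback.fst (pullback.snd f f) y
  haveI : Smooth π := MorphismProperty.pullback_fst _ _ ‹Smooth f›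
  haveI : IsClosedImmersion i := MorphismProperty.pullback_fst _ _ ‹IsClosedImmersion y›
  obtain ⟨Z, z, hz, hfac, hfp⟩ := exists_closed_of_section π (pullback.lift (𝟙 X) (𝟙 X) rfl)
    (pullback.lift_fst _ _ _) i hgen
  haveI := hz
  have hgood : ∀ {T : Scheme.{u}} (g : T ⟶ X), Good f y (g ≫ f) ↔ Good π i g := by
    intro T g
    let h : pullback g π ⟶ pullback (g ≫ f) f :=
      pullback.lift (pullback.fst g π) (pullback.snd g π ≫ pullback.snd f f) (by
        rw [← Category.assoc, pullback.condition, Category.assoc, Category.assoc]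
        exact congrArg (pullback.snd g π ≫ ·) pullback.condition)
    let h' : pullback (g ≫ f) f ⟶ pullback g π :=
      pullback.lift (pullback.fst _ _) (pullback.lift (pullback.fst _ _ ≫ g) (pullback.snd _ _)
        (by rw [Category.assoc, pullback.condition])) (pullback.lift_fst _ _ _).symm
    constructor
    · rintro ⟨l, hl⟩
      refine ⟨pullback.lift (pullback.snd g π) (h ≫ l) ?_, pullback.lift_fst _ _ _⟩
      rw [Category.assoc, hl, pullback.lift_snd]
    · rintro ⟨l, hl⟩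
      refine ⟨h' ≫ l ≫ pullback.snd _ _, ?_⟩
      rw [Category.assoc, Category.assoc, ← pullback.condition, ← Category.assoc l, hl, pullback.lift_snd_assoc,
        pullback.lift_snd]
  have hA : ∀ {A' : Type u} [CommRing A'] (a : Spec (CommRingCat.of A') ⟶ X),
      ∃ I : Ideal A', HasIdeal f y (a ≫ f) I ∧ (LocallyOfFinitePresentation y → I.FG) := by
    intro A' _ a
    obtain ⟨I, hI⟩ := factors_closed_iff z a
    refine ⟨I, fun C _ φ => ?_, fun hy => ?_⟩
    · rw [← Category.assoc, hgood, ← hfac]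
      exact hI (CommRingCat.of C) (CommRingCat.ofHom φ)
    · haveI := hfp (MorphismProperty.pullback_fst _ _ hy)
      exact fg_of_factors z a I hI
  have hloc : ∀ (U : S.affineOpens) (f₀ : Γ(S, U.1)) (V : X.Opens), IsAffineOpen V →
      V ≤ f ⁻¹ᵁ S.basicOpen f₀ → (S.basicOpen f₀ : Set S) ⊆ f '' (V : Set X) →
      ∃ I : Ideal Γ(S, S.basicOpen f₀), HasIdeal f y (U.2.basicOpen f₀).fromSpec I ∧
        (LocallyOfFinitePresentation y → I.FG) := by
    intro U f₀ V hV hle hsurj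
    let hD := U.2.basicOpen f₀
    letI := (f.appLE (S.basicOpen f₀) V hle).hom.toAlgebra
    have hV' : Spec.map (CommRingCat.ofHom (algebraMap Γ(S, S.basicOpen f₀) Γ(X, V))) ≫ hD.fromSpec =
        hV.fromSpec ≫ f := by
      rw [RingHom.algebraMap_toAlgebra, CommRingCat.ofHom_hom, IsAffineOpen.SpecMap_appLE_fromSpec]
    haveI : Module.FaithfullyFlat Γ(S, S.basicOpen f₀) Γ(X, V) := by
      haveI : Module.Flat Γ(S, S.basicOpen f₀) Γ(X, V) :=
        HasRingHomProperty.appLE @Flat f inferInstance ⟨_, hD⟩ ⟨_, hV⟩ hle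
      refine Module.FaithfullyFlat.of_comap_surjective fun p => ?_
      have hp : hD.fromSpec p ∈ S.basicOpen f₀ := hD.range_fromSpec.le ⟨p, rfl⟩
      obtain ⟨x, hx, hxp⟩ := hsurj hp
      obtain ⟨q, rfl⟩ : x ∈ Set.range hV.fromSpec := hV.range_fromSpec.ge hx
      refine ⟨q, hD.fromSpec.isOpenEmbedding.injective ?_⟩
      rw [← hxp, ← Scheme.Hom.comp_apply, ← hV', Scheme.Hom.comp_apply]
      rfl
    obtain ⟨I', hI', hfg'⟩ := hA hV.fromSpec
    rw [← hV'] at hI'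
    obtain ⟨I, hI, hfg⟩ := TransLib.hasIdeal_of_faithfullyFlat hD.fromSpec I' hI'
    exact ⟨I, hI, fun hy => hfg (hfg' hy)⟩
  have hchart : ∀ (U : S.affineOpens) (s : S), s ∈ U.1 → ∃ f₀ : Γ(S, U.1), s ∈ S.basicOpen f₀ ∧
      ∃ V : X.Opens, IsAffineOpen V ∧ V ≤ f ⁻¹ᵁ S.basicOpen f₀ ∧ (S.basicOpen f₀ : Set S) ⊆ f '' (V : Set X) := by
    intro U s hs
    obtain ⟨x, rfl⟩ := f.surjective s
    obtain ⟨V₀, hV₀, hxV₀, hV₀U⟩ := exists_isAffineOpen_mem_and_subset (x := x) (U := f ⁻¹ᵁ U.1) hs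
    obtain ⟨f₀, hf₀, hxf₀⟩ := U.2.exists_basicOpen_le (V := ⟨f '' (V₀ : Set X), f.isOpenMap _ V₀.2⟩)
      ⟨f x, ⟨x, hxV₀, rfl⟩⟩ hs
    have hVeq : X.basicOpen (f.appLE U.1 V₀ hV₀U f₀) = V₀ ⊓ f ⁻¹ᵁ S.basicOpen f₀ :=
      Scheme.basicOpen_appLE f V₀ U.1 hV₀U f₀
    refine ⟨f₀, hxf₀, _, hV₀.basicOpen _, hVeq.le.trans inf_le_right, fun t ht => ?_⟩
    obtain ⟨w, hw, rfl⟩ := hf₀ ht
    exact ⟨w, by rw [hVeq]; exact ⟨hw, ht⟩, rfl⟩
  have hI : HasIdeals f y := by
    intro U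
    let good : Set Γ(S, U.1) := {f₀ | ∃ V : X.Opens, IsAffineOpen V ∧ V ≤ f ⁻¹ᵁ S.basicOpen f₀ ∧
      (S.basicOpen f₀ : Set S) ⊆ f '' (V : Set X)}
    have hspan : Ideal.span good = ⊤ := by
      rw [← U.2.self_le_iSup_basicOpen_iff]
      intro s hs
      obtain ⟨f₀, hsf, hf₀⟩ := hchart U s hs
      exact Opens.mem_iSup.mpr ⟨⟨f₀, hf₀⟩, hsf⟩
    refine hasIdeal_of_span U.2.fromSpec good hspan fun ⟨f₀, V, hV, h1, h2⟩ => ?_
    obtain ⟨I, hI, -⟩ := hloc U f₀ V hV h1 h2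
    haveI := U.2.isLocalization_basicOpen f₀
    let e : Γ(S, S.basicOpen f₀) ≃ₐ[Γ(S, U.1)] Localization.Away f₀ :=
      IsLocalization.algEquiv (Submonoid.powers f₀) _ _
    have h3 := hI.map e.toRingEquiv.toRingHom
    have he : Spec.map (CommRingCat.ofHom e.toRingEquiv.toRingHom) ≫ (U.2.basicOpen f₀).fromSpec =
        Spec.map (CommRingCat.ofHom (algebraMap Γ(S, U.1) (Localization.Away f₀))) ≫ U.2.fromSpec := by
      rw [← IsAffineOpen.map_fromSpec U.2 (U.2.basicOpen f₀) (homOfLE (S.basicOpen_le f₀)).op, ← Category.assoc,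
        ← Spec.map_comp]
      congr 2
      ext r
      exact e.commutes r
    rw [he] at h3
    exact ⟨_, h3⟩
  obtain ⟨T, t, ht, hT⟩ := exists_weilRestriction hI
  refine ⟨T, t, ht, hT, fun hy => ?_⟩
  haveI := ht
  refine locallyOfFinitePresentation_of_hasIdeal hT fun s => ?_
  obtain ⟨U, hU, hsU, -⟩ := exists_isAffineOpen_mem_and_subset (x := s) (U := ⊤) trivial
  obtain ⟨f₀, hsf, V, hV, h1, h2⟩ := hchart ⟨U, hU⟩ s hsU
  obtain ⟨I, hI', hfg⟩ := hloc ⟨U, hU⟩ f₀ V hV h1 h2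
  exact ⟨_, inferInstance, (hU.basicOpen f₀).fromSpec, inferInstance,
    (hU.basicOpen f₀).range_fromSpec.ge hsf, I, hI', hfg hy⟩

end Groth.Agent.SecGerm
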