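import Groth.Agent.SecGerm.GroupChart
import Groth.Agent.GrpSchLib.CoincidenceFP
import Mathlib

/-!
# The locus where a subgroup of a smooth group with connected fibres is everything
-/

universe u

open CategoryTheory CategoryTheory.Limits MonoidalCategory CartesianMonoidalCategory AlgebraicGeometry TensorProduct
open scoped MonObj

set_option backward.isDefEq.respectTransparency false
set_option linter.style.haveILetI false

namespace Groth.Agent.SecGerm

variable {S : Scheme.{u}} {X Y : Over S}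

open GrpSchLib in
set_option maxHeartbeats 2000000 in
set_option synthInstance.maxHeartbeats 200000 in
/-- Near every point of an affine open there is a chart with a universal ideal. -/
theorem exists_groupChart [GrpObj X] [GrpObj Y] [Smooth X.hom] [QuasiSeparated X.hom]
    [GeometricallyConnected X.hom] [LocallyOfFinitePresentation Y.hom] (i : Y ⟶ X) [IsMonHom i] [Mono i]
    {U : S.Opens} (hU : IsAffineOpen U) (s : S) (hs : s ∈ U) :
    ∃ f₀ : Γ(S, U), s ∈ S.basicOpen f₀ ∧ ∃ I : Ideal Γ(S, S.basicOpen f₀),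
      I.FG ∧ HasIdeal X.hom i.left (hU.basicOpen f₀).fromSpec I := by
  haveI : Mono i.left := inferInstanceAs (Mono ((Over.forget S).map i))
  haveI : LocallyOfFiniteType (i.left ≫ X.hom) := by rw [Over.w i]; infer_instance
  haveI : LocallyOfFiniteType i.left := locallyOfFiniteType_of_comp i.left X.hom
  haveI : FormallyUnramified i.left := inferInstance
  let eY : S ⟶ Y.left := η[Y].left
  have heY : ∀ z : S, Y.hom (eY z) = z := fun z => by
    rw [← Scheme.Hom.comp_apply]
    exact congrArg (fun m : S ⟶ S => m z) (Over.w η[Y])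
  have hxU : X.hom (i.left (eY s)) ∈ U := by
    rw [← Scheme.Hom.comp_apply, Over.w i, heY]; exact hs
  obtain ⟨V, hV, hxV, hVU⟩ := exists_isAffineOpen_mem_and_subset (x := i.left (eY s)) (U := X.hom ⁻¹ᵁ U) hxU
  obtain ⟨W, hW, hyW, hWV⟩ := exists_isAffineOpen_mem_and_subset (x := eY s) (U := i.left ⁻¹ᵁ V) hxV
  have hWU : W ≤ Y.hom ⁻¹ᵁ U := fun y hy => by
    show Y.hom y ∈ U
    rw [← Over.w i, Scheme.Hom.comp_apply]
    exact hVU (hWV hy)
  letI algA : Algebra Γ(S, U) Γ(X.left, V) := (X.hom.appLE U V hVU).hom.toAlgebra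
  letI algB : Algebra Γ(S, U) Γ(Y.left, W) := (Y.hom.appLE U W hWU).hom.toAlgebra
  letI algAB : Algebra Γ(X.left, V) Γ(Y.left, W) := (i.left.appLE V W hWV).hom.toAlgebra
  haveI : IsScalarTower Γ(S, U) Γ(X.left, V) Γ(Y.left, W) := IsScalarTower.of_algebraMap_eq fun r => by
    have h := congrArg CommRingCat.Hom.hom (Scheme.Hom.appLE_comp_appLE i.left X.hom U V W hVU hWV)
    have h2 : ∀ (m : Y.left ⟶ S) (hm : m = Y.hom) (e : W ≤ m ⁻¹ᵁ U), m.appLE U W e = Y.hom.appLE U W hWU := by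
      rintro m rfl e; rfl
    rw [h2 _ (Over.w i)] at h
    exact (RingHom.congr_fun h r).symm
  haveI : Algebra.Smooth Γ(S, U) Γ(X.left, V) := by
    rw [← RingHom.smooth_algebraMap, RingHom.algebraMap_toAlgebra]
    exact X.hom.smooth_appLE hU hV hVU
  haveI : Algebra.FinitePresentation Γ(S, U) Γ(Y.left, W) :=
    HasRingHomProperty.appLE @LocallyOfFinitePresentation Y.hom inferInstance ⟨U, hU⟩ ⟨W, hW⟩ hWU
  haveI : Algebra.FiniteType Γ(X.left, V) Γ(Y.left, W) :=
    HasRingHomProperty.appLE @LocallyOfFiniteType i.left inferInstance ⟨V, hV⟩ ⟨W, hW⟩ hWV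
  haveI : Algebra.FormallyUnramified Γ(X.left, V) Γ(Y.left, W) :=
    HasRingHomProperty.appLE @FormallyUnramified i.left inferInstance ⟨V, hV⟩ ⟨W, hW⟩ hWV
  let Q := hW.primeIdealOf ⟨eY s, hyW⟩
  obtain ⟨f, hfQ, P, φ, hφ⟩ := Algebra.IsUnramifiedAt.exists_hasStandardEtaleSurjectionOn (R := Γ(X.left, V)) Q.asIdeal
  have hsf : eY s ∈ Y.left.basicOpen f := by
    have h1 : hW.fromSpec Q ∈ Y.left.basicOpen f := by
      rw [← hW.fromSpec_image_basicOpen]
      exact ⟨Q, hfQ, rfl⟩
    rwa [hW.fromSpec_primeIdealOf] at h1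
  obtain ⟨f₀, hf₀, hsf₀⟩ := hU.exists_basicOpen_le (V := eY ⁻¹ᵁ Y.left.basicOpen f) ⟨s, hsf⟩ hs
  refine ⟨f₀, hsf₀, ?_⟩
  let D := S.basicOpen f₀
  have hD : IsAffineOpen D := hU.basicOpen f₀
  let res : Γ(S, U) ⟶ Γ(S, D) := S.presheaf.map (homOfLE (S.basicOpen_le f₀)).op
  letI : Algebra Γ(S, U) Γ(S, D) := res.hom.toAlgebra
  -- the algebras over `U`
  let A₁ := P.Ring
  let B₁ := Localization.Away f
  letI : Algebra Γ(S, U) A₁ := ((algebraMap Γ(X.left, V) A₁).comp (algebraMap Γ(S, U) Γ(X.left, V))).toAlgebra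
  haveI : IsScalarTower Γ(S, U) Γ(X.left, V) A₁ := IsScalarTower.of_algebraMap_eq fun _ => rfl
  haveI : Algebra.Etale Γ(X.left, V) A₁ := inferInstance
  haveI : Algebra.Smooth Γ(S, U) A₁ := Algebra.Smooth.comp Γ(S, U) Γ(X.left, V) A₁
  haveI : Algebra.FinitePresentation Γ(S, U) B₁ :=
    haveI : Algebra.FinitePresentation Γ(Y.left, W) B₁ := IsLocalization.Away.finitePresentation f
    Algebra.FinitePresentation.trans Γ(S, U) Γ(Y.left, W) B₁
  let φ₁ : A₁ →ₐ[Γ(S, U)] B₁ := φ.restrictScalars Γ(S, U)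
  -- the section
  have hDW : D ≤ eY ⁻¹ᵁ W := fun z hz => Y.left.basicOpen_le f (hf₀ hz)
  have hDf : D ≤ eY ⁻¹ᵁ Y.left.basicOpen f := hf₀
  have hunit : IsUnit ((eY.appLE W D hDW).hom f) := by
    rw [← Scheme.Hom.map_appLE eY hDf (homOfLE (Y.left.basicOpen_le f)).op]
    exact (RingedSpace.isUnit_res_basicOpen _ f).map (eY.appLE (Y.left.basicOpen f) D hDf).hom
  have heYU : Y.hom.appLE U W hWU ≫ eY.appLE W D hDW = res := by
    rw [Scheme.Hom.appLE_comp_appLE]
    have h2 : ∀ (m : S ⟶ S) (hm : m = 𝟙 S) (e : D ≤ m ⁻¹ᵁ U), m.appLE U D e = res := by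
      rintro m rfl e
      rw [Scheme.Hom.appLE, Scheme.Hom.id_app, Category.id_comp]
    exact h2 _ (Over.w η[Y]) _
  let τ : B₁ →ₐ[Γ(S, U)] Γ(S, D) :=
    { IsLocalization.Away.lift (g := (eY.appLE W D hDW).hom) f hunit with
      commutes' := fun r => by
        show IsLocalization.Away.lift (g := (eY.appLE W D hDW).hom) f hunit (algebraMap Γ(S, U) B₁ r) = _
        rw [IsScalarTower.algebraMap_apply Γ(S, U) Γ(Y.left, W) B₁, IsLocalization.Away.lift_eq]
        exact RingHom.congr_fun (congrArg CommRingCat.Hom.hom heYU) r }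
  let R := Γ(S, D)
  let A := R ⊗[Γ(S, U)] A₁
  let B := R ⊗[Γ(S, U)] B₁
  haveI : Algebra.Smooth R A := inferInstance
  haveI : Algebra.FinitePresentation R B := inferInstance
  let φR : A →ₐ[R] B := Algebra.TensorProduct.map (AlgHom.id R R) φ₁
  have hφR : Function.Surjective φR := Algebra.TensorProduct.map_surjective (AlgHom.id R R) φ₁ (fun c => ⟨c, rfl⟩) hφ
  let σ : B →ₐ[R] R := Algebra.TensorProduct.lift (AlgHom.id R R) τ fun _ _ => Commute.all _ _
  -- the maps
  have hres : Spec.map res ≫ hU.fromSpec = hD.fromSpec := hU.map_fromSpec hD _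
  haveI : IsOpenImmersion (Spec.map res) :=
    haveI : IsOpenImmersion (Spec.map res ≫ hU.fromSpec) := by rw [hres]; infer_instance
    IsOpenImmersion.of_comp (Spec.map res) hU.fromSpec
  haveI hresI : IsOpenImmersion (Spec.map (CommRingCat.ofHom (algebraMap Γ(S, U) R))) := ‹IsOpenImmersion (Spec.map res)›
  have hinrA := isPullback_SpecMap_of_isPushout _ _ _ _ (CommRingCat.isPushout_tensorProduct Γ(S, U) R A₁)
  have hinrB := isPullback_SpecMap_of_isPushout _ _ _ _ (CommRingCat.isPushout_tensorProduct Γ(S, U) R B₁)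
  let inrA : Spec (CommRingCat.of A) ⟶ Spec (CommRingCat.of A₁) := Spec.map (CommRingCat.ofHom
    (Algebra.TensorProduct.includeRight (R := Γ(S, U)) (A := R) (B := A₁)).toRingHom)
  let inrB : Spec (CommRingCat.of B) ⟶ Spec (CommRingCat.of B₁) := Spec.map (CommRingCat.ofHom
    (Algebra.TensorProduct.includeRight (R := Γ(S, U)) (A := R) (B := B₁)).toRingHom)
  haveI : IsOpenImmersion inrA := MorphismProperty.of_isPullback (P := @IsOpenImmersion) hinrA hresI
  haveI : IsOpenImmersion inrB := MorphismProperty.of_isPullback (P := @IsOpenImmersion) hinrB hresI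
  let q₀ : Spec (CommRingCat.of A₁) ⟶ X.left :=
    Spec.map (CommRingCat.ofHom (algebraMap Γ(X.left, V) A₁)) ≫ hV.fromSpec
  let o₀ : Spec (CommRingCat.of B₁) ⟶ Y.left :=
    Spec.map (CommRingCat.ofHom (algebraMap Γ(Y.left, W) B₁)) ≫ hW.fromSpec
  haveI : Etale q₀ := by
    haveI : Etale (Spec.map (CommRingCat.ofHom (algebraMap Γ(X.left, V) A₁))) :=
      (HasRingHomProperty.Spec_iff (P := @Etale)).mpr (RingHom.etale_algebraMap.mpr inferInstance)
    infer_instance
  haveI : IsOpenImmersion o₀ :=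
    haveI := IsOpenImmersion.of_isLocalization (S := B₁) f
    inferInstanceAs (IsOpenImmersion (_ ≫ hW.fromSpec))
  have hqX : q₀ ≫ X.hom = Spec.map (CommRingCat.ofHom (algebraMap Γ(S, U) A₁)) ≫ hU.fromSpec := by
    rw [Category.assoc, ← IsAffineOpen.SpecMap_appLE_fromSpec X.hom hU hV hVU, ← Category.assoc, ← Spec.map_comp]
    rfl
  have hoY : o₀ ≫ Y.hom = Spec.map (CommRingCat.ofHom (algebraMap Γ(S, U) B₁)) ≫ hU.fromSpec := by
    rw [Category.assoc, ← IsAffineOpen.SpecMap_appLE_fromSpec Y.hom hU hW hWU, ← Category.assoc, ← Spec.map_comp]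
    congr 2
  have hk₀ : Spec.map (CommRingCat.ofHom φ₁.toRingHom) ≫ q₀ = o₀ ≫ i.left := by
    rw [Category.assoc, ← IsAffineOpen.SpecMap_appLE_fromSpec i.left hV hW hWV, ← Category.assoc, ← Category.assoc,
      ← Spec.map_comp, ← Spec.map_comp]
    congr 2
    ext r
    exact (φ.commutes r).trans (IsScalarTower.algebraMap_apply Γ(X.left, V) Γ(Y.left, W) B₁ r)
  have hwq : Spec.map (CommRingCat.ofHom (algebraMap R A)) ≫ hD.fromSpec = (inrA ≫ q₀) ≫ X.hom := by
    rw [Category.assoc, hqX, ← hres]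
    exact hinrA.w_assoc _
  have hwo : Spec.map (CommRingCat.ofHom (algebraMap R B)) ≫ hD.fromSpec = (inrB ≫ o₀) ≫ Y.hom := by
    rw [Category.assoc, hoY, ← hres]
    exact hinrB.w_assoc _
  let q : Spec (CommRingCat.of A) ⟶ pullback hD.fromSpec X.hom := pullback.lift _ _ hwq
  let o : Spec (CommRingCat.of B) ⟶ pullback hD.fromSpec Y.hom := pullback.lift _ _ hwo
  haveI : Etale (q ≫ pullback.snd hD.fromSpec X.hom) := by rw [pullback.lift_snd]; infer_instance
  haveI : Etale q := Etale.of_comp q (pullback.snd hD.fromSpec X.hom)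
  haveI : IsOpenImmersion (o ≫ pullback.snd hD.fromSpec Y.hom) := by rw [pullback.lift_snd]; infer_instance
  haveI : IsOpenImmersion o := IsOpenImmersion.of_comp o (pullback.snd hD.fromSpec Y.hom)
  have hh : Spec.map (CommRingCat.ofHom φR.toRingHom) ≫ inrA = inrB ≫ Spec.map (CommRingCat.ofHom φ₁.toRingHom) := by
    rw [← Spec.map_comp, ← Spec.map_comp]
    congr 1
  obtain ⟨I, hIfg, hI⟩ := hasIdeal_of_groupChart i φR hφR σ hD.fromSpec q (pullback.lift_fst _ _ _) o
    (pullback.lift_fst _ _ _) (by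
      rw [pullback.lift_snd, pullback.lift_snd_assoc, reassoc_of% hh, hk₀]
      simp only [o₀, Category.assoc])
  exact ⟨I, hIfg, hI⟩

open GrpSchLib in
/-- The locus where a subgroup of a smooth group with connected fibres is everything. -/
theorem exists_closed_subgroup [GrpObj X] [GrpObj Y] [Smooth X.hom] [QuasiSeparated X.hom]
    [GeometricallyConnected X.hom] [LocallyOfFinitePresentation Y.hom] (i : Y ⟶ X) [IsMonHom i] [Mono i] :
    ∃ (Z : Scheme.{u}) (z : Z ⟶ S), IsClosedImmersion z ∧ LocallyOfFinitePresentation z ∧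
      ∀ (T : Scheme.{u}) (g : T ⟶ S), (∃ w : T ⟶ Z, w ≫ z = g) ↔ Good X.hom i.left g := by
  haveI : Mono i.left := inferInstanceAs (Mono ((Over.forget S).map i))
  have hI : HasIdeals X.hom i.left := by
    intro U
    let good : Set Γ(S, U.1) :=
      {f₀ | ∃ I : Ideal Γ(S, S.basicOpen f₀), HasIdeal X.hom i.left (U.2.basicOpen f₀).fromSpec I}
    have hspan : Ideal.span good = ⊤ := by
      rw [← U.2.self_le_iSup_basicOpen_iff]
      intro s hs
      obtain ⟨f₀, hsf, I, -, hI⟩ := exists_groupChart i U.2 s hs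
      exact TopologicalSpace.Opens.mem_iSup.mpr ⟨⟨f₀, I, hI⟩, hsf⟩
    refine hasIdeal_of_span U.2.fromSpec good hspan fun ⟨f₀, I, hI⟩ => ?_
    haveI := U.2.isLocalization_basicOpen f₀
    let e : Γ(S, S.basicOpen f₀) ≃ₐ[Γ(S, U.1)] Localization.Away f₀ :=
      IsLocalization.algEquiv (Submonoid.powers f₀) _ _
    have h3 := hI.map e.toRingEquiv.toRingHom
    have he : Spec.map (CommRingCat.ofHom e.toRingEquiv.toRingHom) ≫ (U.2.basicOpen f₀).fromSpec =
        Spec.map (CommRingCat.ofHom (algebraMap Γ(S, U.1) (Localization.Away f₀))) ≫ U.2.fromSpec := by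
      rw [← IsAffineOpen.map_fromSpec U.2 (U.2.basicOpen f₀) (homOfLE (S.basicOpen_le f₀)).op, ← Category.assoc,
        ← Spec.map_comp]
      congr 2
      ext r
      exact e.commutes r
    rw [he] at h3
    exact ⟨_, h3⟩
  obtain ⟨Z, z, hz, hfac⟩ := exists_weilRestriction hI
  haveI := hz
  refine ⟨Z, z, hz, locallyOfFinitePresentation_of_hasIdeal hfac fun s => ?_, hfac⟩
  obtain ⟨U, hU, hsU, -⟩ := exists_isAffineOpen_mem_and_subset (x := s) (U := ⊤) trivial
  obtain ⟨f₀, hsf, I, hfg, hI'⟩ := exists_groupChart i hU s hsU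
  exact ⟨_, inferInstance, (hU.basicOpen f₀).fromSpec, inferInstance, (hU.basicOpen f₀).range_fromSpec.ge hsf, I, hI', hfg⟩

end Groth.Agent.SecGerm
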