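import Groth.Agent.SecGerm.Locus

/-!
# Transporter of a smooth subgroup with connected fibres into a subgroup
-/

universe u

open CategoryTheory CategoryTheory.Limits MonoidalCategory CartesianMonoidalCategory AlgebraicGeometry
open scoped MonObj

set_option backward.isDefEq.respectTransparency false
set_option linter.style.haveILetI false

namespace Groth.Agent.SecGerm

variable {S : Scheme.{u}} {G H K : Over S}

set_option maxHeartbeats 1000000 in
/-- The transporter of a smooth subgroup with connected fibres into a subgroup of finite presentation is closed. -/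
theorem exists_transporter [GrpObj G] [GrpObj H] [GrpObj K] [Smooth H.hom]
    [QuasiSeparated H.hom] [GeometricallyConnected H.hom] (i : H ⟶ G) [IsMonHom i] (j : K ⟶ G) [IsMonHom j] [Mono j]
    [LocallyOfFinitePresentation j.left] [QuasiCompact j.left] :
    ∃ (T : Over S) (t : T ⟶ G), IsClosedImmersion t.left ∧ LocallyOfFinitePresentation t.left ∧
      ∀ (X : Over S) (g : X ⟶ G), (∃ x : X ⟶ T, x ≫ t = g) ↔
        ∀ (X' : Over S) (x : X' ⟶ X) (h : X' ⟶ H), ∃ k : X' ⟶ K, (x ≫ g) * (h ≫ i) * (x ≫ g)⁻¹ = k ≫ j := by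
  let a : H ⊗ G ⟶ G := snd H G * (fst H G ≫ i) * (snd H G)⁻¹
  let e := pullback.fst a.left j.left
  let E : Over S := Over.mk (e ≫ (H ⊗ G).hom)
  let ie : E ⟶ H ⊗ G := Over.homMk e rfl
  haveI : Mono j.left := inferInstanceAs (Mono ((Over.forget S).map j))
  haveI : Mono e := inferInstanceAs (Mono (pullback.fst _ _))
  haveI : Mono ie := (Over.forget S).mono_of_mono_map (show Mono ie.left from ‹Mono e›)
  haveI : LocallyOfFinitePresentation ie.left :=
    MorphismProperty.pullback_fst (P := @LocallyOfFinitePresentation) _ _ ‹LocallyOfFinitePresentation j.left›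
  haveI : QuasiCompact ie.left := MorphismProperty.pullback_fst (P := @QuasiCompact) _ _ ‹QuasiCompact j.left›
  let Q : ∀ P : Over S, (P ⟶ H) → (P ⟶ G) → Prop := fun P h g => ∃ k : P ⟶ K, g * (h ≫ i) * g⁻¹ = k ≫ j
  have hE : ∀ (P : Over S) (h : P ⟶ H) (g : P ⟶ G), (∃ m : P ⟶ E, m ≫ ie = lift h g) ↔ Q P h g := by
    intro P h g
    have ha : lift h g ≫ a = g * (h ≫ i) * g⁻¹ := by simp [a, MonObj.comp_mul, GrpObj.comp_inv]
    show _ ↔ ∃ k, _
    rw [← ha]
    constructor
    · rintro ⟨m, hm⟩
      have hml : (lift h g).left = m.left ≫ e := (congrArg CommaMorphism.left hm).symm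
      refine ⟨Over.homMk (m.left ≫ pullback.snd a.left j.left) ?_, Over.OverMorphism.ext ?_⟩
      · rw [← Over.w j, Category.assoc, ← pullback.condition_assoc, Over.w a, ← Over.w (lift h g), hml,
          Category.assoc]
      · show (lift h g).left ≫ a.left = (m.left ≫ pullback.snd a.left j.left) ≫ j.left
        rw [hml, Category.assoc, Category.assoc, pullback.condition]
    · rintro ⟨k, hk⟩
      let m := pullback.lift (lift h g).left k.left (congrArg CommaMorphism.left hk)
      have hm : m ≫ e = (lift h g).left := pullback.lift_fst _ _ _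
      exact ⟨Over.homMk m (by show m ≫ e ≫ _ = _; rw [← Category.assoc, hm, Over.w]), Over.OverMorphism.ext hm⟩
  obtain ⟨Z, c, hc, hfp, hZ⟩ := exists_closed_transporter ie
    (fun P g => (hE P 1 g).mpr ⟨1, by rw [MonObj.one_comp, MonObj.one_comp]; group⟩)
    (fun P h h' g k k' => (hE P _ g).mpr (by
      obtain ⟨u, hu⟩ := (hE P h g).mp k
      obtain ⟨u', hu'⟩ := (hE P h' g).mp k'
      exact ⟨u * u', by rw [MonObj.mul_comp, MonObj.mul_comp, ← hu, ← hu']; group⟩))
    (fun P h g k => (hE P _ g).mpr (by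
      obtain ⟨u, hu⟩ := (hE P h g).mp k
      exact ⟨u⁻¹, by rw [GrpObj.inv_comp, GrpObj.inv_comp, ← hu]; group⟩))
  exact ⟨Z, c, hc, hfp, fun X g => (hZ X g).trans (whiskerLeft_mem_iff ie g Q hE)⟩

end Groth.Agent.SecGerm
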