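import Mathlib

/-!
# Germs along a section of a smooth algebra

For a retraction `σ : A → R` of a smooth algebra and `h ∈ A`, the ideal `germIdeal σ h` of `R` generated by the
Taylor coefficients of `h` along the section cuts out the locus over which `h` vanishes near the section.
-/

universe u

open TensorProduct

set_option linter.style.haveILetI false

namespace Groth.Agent.SecGerm

variable {R A : Type u} [CommRing R] [CommRing A] [Algebra R A] (σ : A →ₐ[R] R)

theorem sub_algebraMap_mem (a : A) : a - algebraMap R A (σ a) ∈ RingHom.ker σ := by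
  simp [RingHom.mem_ker]

theorem fg_ker [Algebra.FiniteType R A] : (RingHom.ker σ).FG := by
  classical
  obtain ⟨s, hs⟩ := Algebra.FiniteType.out (R := R) (A := A)
  let T : Ideal A := Ideal.span ((fun x => x - algebraMap R A (σ x)) '' (s : Set A))
  refine ⟨s.image (fun x => x - algebraMap R A (σ x)), ?_⟩
  rw [Finset.coe_image]
  refine le_antisymm (Ideal.span_le.mpr ?_) fun a ha => ?_
  · rintro _ ⟨x, -, rfl⟩
    exact sub_algebraMap_mem σ x
  · have key : ∀ b ∈ Algebra.adjoin R (s : Set A), b - algebraMap R A (σ b) ∈ T := by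
      intro b hb
      induction hb using Algebra.adjoin_induction with
      | mem x hx => exact Ideal.subset_span ⟨x, hx, rfl⟩
      | algebraMap r => simp
      | add x y _ _ hx hy =>
        rw [map_add, map_add, show x + y - (algebraMap R A (σ x) + algebraMap R A (σ y)) =
          (x - algebraMap R A (σ x)) + (y - algebraMap R A (σ y)) by ring]
        exact add_mem hx hy
      | mul x y _ _ hx hy =>
        rw [map_mul, map_mul, show x * y - algebraMap R A (σ x) * algebraMap R A (σ y) =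
          (x - algebraMap R A (σ x)) * y + algebraMap R A (σ x) * (y - algebraMap R A (σ y)) by ring]
        exact add_mem (T.mul_mem_right _ hx) (T.mul_mem_left _ hy)
    have := key a (hs ▸ Algebra.mem_top)
    rwa [RingHom.mem_ker.mp ha, map_zero, sub_zero] at this

/-- The thickenings of a section of a smooth algebra are direct summands of finite free modules. -/
theorem exists_dualBasis [Algebra.FormallySmooth R A] [Algebra.FiniteType R A] (n : ℕ) :
    ∃ (κ : Type u) (_ : Fintype κ) (e : κ → A) (c : κ → A →ₗ[R] R),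
      (∀ k, ∀ x ∈ RingHom.ker σ ^ n, c k x = 0) ∧
      ∀ a, a - ∑ k, algebraMap R A (c k a) * e k ∈ RingHom.ker σ ^ n := by
  classical
  rcases Nat.eq_zero_or_pos n with rfl | hn
  · exact ⟨PEmpty, inferInstance, PEmpty.elim, PEmpty.elim, fun k => k.elim, fun a => by simp⟩
  let I := RingHom.ker σ
  obtain ⟨s, hs⟩ := fg_ker σ
  let ι : Type u := ↥s
  let P := MvPolynomial ι R
  let M : Ideal P := MvPolynomial.idealOfVars ι R
  let p : P →ₐ[R] A := MvPolynomial.aeval fun i : ι => i.1
  have hpM : M.map (p : P →+* A) = I := by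
    rw [show M = Ideal.span (Set.range MvPolynomial.X) from rfl, Ideal.map_span, ← Set.range_comp,
      show ((p : P →+* A) ∘ MvPolynomial.X) = fun i : ι => i.1 from funext fun i => MvPolynomial.aeval_X _ i]
    rw [show (I : Ideal A) = RingHom.ker σ from rfl, ← hs]
    congr 1
    exact Subtype.range_coe
  have hpn : M ^ n ≤ RingHom.ker ((Ideal.Quotient.mkₐ R (I ^ n)).comp p) := by
    intro x hx
    rw [RingHom.mem_ker]
    show Ideal.Quotient.mk (I ^ n) (p x) = 0
    rw [Ideal.Quotient.eq_zero_iff_mem, ← hpM, ← Ideal.map_pow]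
    exact Ideal.mem_map_of_mem _ hx
  let π : P ⧸ M ^ n →ₐ[R] A ⧸ I ^ n := Ideal.Quotient.liftₐ (M ^ n) _ fun x hx => hpn hx
  have hπ : ∀ x, π (Ideal.Quotient.mk _ x) = Ideal.Quotient.mk _ (p x) := fun x => rfl
  have hσp : ∀ x : P, σ (p x) = MvPolynomial.constantCoeff x := by
    intro x
    induction x using MvPolynomial.induction_on with
    | C r =>
      rw [show p (MvPolynomial.C r) = algebraMap R A r from MvPolynomial.algHom_C p r, σ.commutes,
        MvPolynomial.constantCoeff_C]
      rfl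
    | add x y hx hy => simp [hx, hy]
    | mul_X x i hx =>
      have : σ (i : ι).1 = 0 := RingHom.mem_ker.mp (hs ▸ Submodule.subset_span i.2)
      rw [map_mul, map_mul, show p (MvPolynomial.X i) = (i : A) from MvPolynomial.aeval_X _ i, this]
      simp
  have hMc : ∀ x : P, x ∈ M ↔ MvPolynomial.constantCoeff x = 0 := fun x => by
    rw [← pow_one M, MvPolynomial.mem_pow_idealOfVars_iff']
    refine ⟨fun h => h 0 (by simp), fun h d hd => ?_⟩
    rw [show d = 0 from (Finsupp.degree_eq_zero_iff d).mp (by lia)]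
    exact h
  have hsurj : Function.Surjective π := by
    have hgr : ∀ k ≤ n, ∀ a : A, a ∈ I ^ (n - k) → ∃ x, π x = Ideal.Quotient.mk _ a := by
      intro k
      induction k with
      | zero =>
        exact fun _ a ha => ⟨0, by rw [map_zero, eq_comm, Ideal.Quotient.eq_zero_iff_mem]; simpa using ha⟩
      | succ k ih =>
        intro hk a ha
        have hmem : a ∈ (M ^ (n - (k + 1))).map (p : P →+* A) := by rw [Ideal.map_pow, hpM]; exact ha
        suffices h : ∀ b ∈ (M ^ (n - (k + 1))).map (p : P →+* A), ∃ (y : P) (r : A),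
            r ∈ I ^ (n - k) ∧ b = p y + r by
          obtain ⟨y, r, hr, rfl⟩ := h a hmem
          obtain ⟨x, hx⟩ := ih (by lia) r hr
          exact ⟨Ideal.Quotient.mk _ y + x, by rw [map_add, hx, hπ, map_add]⟩
        intro b hb
        rw [Ideal.map] at hb
        induction hb using Submodule.span_induction with
        | mem b hb => obtain ⟨y, hy, rfl⟩ := hb; exact ⟨y, 0, zero_mem _, by simp⟩
        | zero => exact ⟨0, 0, zero_mem _, by simp⟩
        | add b b' _ _ hb hb' =>
          obtain ⟨y, r, hr, rfl⟩ := hb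
          obtain ⟨y', r', hr', rfl⟩ := hb'
          exact ⟨y + y', r + r', add_mem hr hr', by rw [map_add]; ring⟩
        | smul c b hbm hb =>
          obtain ⟨y, r, hr, hbe⟩ := hb
          refine ⟨MvPolynomial.C (σ c) * y, (c - algebraMap R A (σ c)) * b + algebraMap R A (σ c) * r,
            add_mem ?_ (Ideal.mul_mem_left _ _ hr), ?_⟩
          · have hb' : b ∈ I ^ (n - (k + 1)) := by rw [← hpM, ← Ideal.map_pow]; exact hbm
            have hd : n - k = 1 + (n - (k + 1)) := by lia
            rw [hd, pow_add, pow_one]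
            exact Ideal.mul_mem_mul (sub_algebraMap_mem σ c) hb'
          · rw [smul_eq_mul, map_mul, show p (MvPolynomial.C (σ c)) = algebraMap R A (σ c) from
              MvPolynomial.aeval_C _ _]
            rw [sub_mul, hbe]
            ring
    intro t
    obtain ⟨a, rfl⟩ := Ideal.Quotient.mk_surjective t
    exact hgr n le_rfl a (by simp)
  have hker : IsNilpotent (RingHom.ker π) := by
    refine ⟨n, ?_⟩
    rw [Ideal.zero_eq_bot, eq_bot_iff]
    have hle : RingHom.ker π ≤ M.map (Ideal.Quotient.mk (M ^ n)) := by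
      intro x hx
      obtain ⟨y, rfl⟩ := Ideal.Quotient.mk_surjective x
      rw [RingHom.mem_ker, hπ, Ideal.Quotient.eq_zero_iff_mem] at hx
      refine Ideal.mem_map_of_mem _ ((hMc y).mpr ?_)
      rw [← hσp]
      exact RingHom.mem_ker.mp (Ideal.pow_le_self (by lia) hx)
    refine (Ideal.pow_right_mono hle n).trans ?_
    rw [← Ideal.map_pow, Ideal.map_quotient_self]
  let s' : A →ₐ[R] P ⧸ M ^ n :=
    Algebra.FormallySmooth.liftOfSurjective (Ideal.Quotient.mkₐ R (I ^ n)) π hsurj hker
  have hs' : ∀ a, π (s' a) = Ideal.Quotient.mk _ a := fun a =>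
    Algebra.FormallySmooth.liftOfSurjective_apply _ π hsurj hker a
  have hsM : I.map (s' : A →+* P ⧸ M ^ n) ≤ M.map (Ideal.Quotient.mk (M ^ n)) := by
    rw [Ideal.map_le_iff_le_comap]
    intro a ha
    obtain ⟨y, hy⟩ := Ideal.Quotient.mk_surjective (s' a)
    have h1 := hs' a
    rw [← hy, hπ, Ideal.Quotient.eq] at h1
    have h2 : σ (p y - a) = 0 := RingHom.mem_ker.mp (Ideal.pow_le_self (by lia) h1)
    rw [map_sub, RingHom.mem_ker.mp ha, sub_zero, hσp] at h2
    rw [Ideal.mem_comap, RingHom.coe_coe]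
    rw [← hy]
    exact Ideal.mem_map_of_mem _ ((hMc y).mpr h2)
  have hskill : ∀ a ∈ I ^ n, s' a = 0 := fun a ha => by
    have h1 : s' a ∈ (I.map (s' : A →+* P ⧸ M ^ n)) ^ n := by
      rw [← Ideal.map_pow]; exact Ideal.mem_map_of_mem _ ha
    have h2 := Ideal.pow_right_mono hsM n h1
    rwa [← Ideal.map_pow, Ideal.map_quotient_self, Ideal.mem_bot] at h2
  let D : Set (ι →₀ ℕ) := {d | Finsupp.degree d < n}
  have hD : D.Finite := (Finsupp.finite_of_degree_le n).subset fun d hd => le_of_lt (α := ℕ) hd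
  letI : Fintype D := hD.fintype
  let q : (P ⧸ M ^ n) →ₗ[R] (D → R) :=
    ((M ^ n).restrictScalars R).liftQ (LinearMap.pi fun d : D => MvPolynomial.lcoeff R d.1) fun x hx => by
      rw [LinearMap.mem_ker]
      ext d
      exact (MvPolynomial.mem_pow_idealOfVars_iff' n x).mp hx d.1 d.2
  refine ⟨D, inferInstance, fun d => p (MvPolynomial.monomial d.1 1),
    fun d => (LinearMap.proj d).comp (q.comp s'.toLinearMap), fun d x hx => ?_, fun a => ?_⟩
  · show q (s' x) d = 0
    rw [hskill x hx, map_zero]; rfl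
  · obtain ⟨y, hy⟩ := Ideal.Quotient.mk_surjective (s' a)
    have h1 := hs' a
    rw [← hy, hπ, Ideal.Quotient.eq] at h1
    have h2 : y - ∑ d : D, MvPolynomial.C (y.coeff d.1) * MvPolynomial.monomial d.1 1 ∈ M ^ n := by
      rw [MvPolynomial.mem_pow_idealOfVars_iff']
      intro x hx
      rw [MvPolynomial.coeff_sub, MvPolynomial.coeff_sum, Finset.sum_eq_single ⟨x, hx⟩]
      · rw [MvPolynomial.C_mul_monomial, MvPolynomial.coeff_monomial, if_pos rfl, mul_one, sub_self]
      · intro d _ hd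
        rw [MvPolynomial.C_mul_monomial, MvPolynomial.coeff_monomial, if_neg fun h => hd (Subtype.ext h)]
      · simp
    have h3 : p y - ∑ d : D, algebraMap R A (q (s' a) d) * p (MvPolynomial.monomial d.1 1) ∈ I ^ n := by
      have := Ideal.mem_map_of_mem (p : P →+* A) h2
      rw [Ideal.map_pow, hpM] at this
      simp only [RingHom.coe_coe, map_sub, map_sum, map_mul] at this
      rw [← hy]
      have hC : ∀ r : R, p (MvPolynomial.C r) = algebraMap R A r := fun r => MvPolynomial.algHom_C p r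
      simp only [hC] at this
      exact this
    have := sub_mem (show a - p y ∈ I ^ n by rw [← neg_sub]; exact neg_mem h1) (neg_mem h3)
    convert this using 1
    simp only [LinearMap.comp_apply, LinearMap.proj_apply, AlgHom.toLinearMap_apply]
    ring

/-- The ideal generated by the Taylor coefficients of `h` along the section. -/
def germIdeal (h : A) : Ideal R :=
  Ideal.span {r | ∃ (n : ℕ) (c : A →ₗ[R] R), (∀ x ∈ RingHom.ker σ ^ n, c x = 0) ∧ c h = r}

section BaseChange

variable (T : Type u) [CommRing T] [Algebra R T]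

/-- The base change of a section. -/
noncomputable def bcSec : T ⊗[R] A →ₐ[T] T :=
  Algebra.TensorProduct.lift (AlgHom.id T T) ((Algebra.ofId R T).comp σ) fun _ _ => Commute.all _ _

@[simp]
theorem bcSec_tmul (t : T) (a : A) : bcSec σ T (t ⊗ₜ a) = t * algebraMap R T (σ a) := by
  simp [bcSec, Algebra.ofId_apply]

theorem ker_bcSec : RingHom.ker (bcSec σ T) =
    (RingHom.ker σ).map (Algebra.TensorProduct.includeRight (A := T) (B := A)) := by
  refine le_antisymm (fun x hx => ?_) (Ideal.map_le_iff_le_comap.mpr fun a ha => ?_)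
  · have key : ∀ y, y - algebraMap T (T ⊗[R] A) (bcSec σ T y) ∈
        (RingHom.ker σ).map (Algebra.TensorProduct.includeRight (A := T) (B := A)) := by
      intro y
      induction y using TensorProduct.induction_on with
      | zero => simp
      | tmul t a =>
        have h1 : t ⊗ₜ[R] a - algebraMap T (T ⊗[R] A) (bcSec σ T (t ⊗ₜ a)) =
            (t ⊗ₜ[R] 1) * Algebra.TensorProduct.includeRight (A := T) (a - algebraMap R A (σ a)) := by
          rw [bcSec_tmul, map_sub, mul_sub, Algebra.TensorProduct.includeRight_apply,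
            Algebra.TensorProduct.includeRight_apply, Algebra.TensorProduct.tmul_mul_tmul,
            Algebra.TensorProduct.tmul_mul_tmul, Algebra.TensorProduct.algebraMap_apply, Algebra.algebraMap_self,
            RingHom.id_apply, mul_one, one_mul, one_mul, Algebra.algebraMap_eq_smul_one (σ a),
            Algebra.algebraMap_eq_smul_one (σ a), mul_smul_comm, mul_one, TensorProduct.smul_tmul]
        rw [h1]
        exact Ideal.mul_mem_left _ _ (Ideal.mem_map_of_mem _ (sub_algebraMap_mem σ a))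
      | add y z hy hz =>
        rw [map_add, map_add, show y + z - (algebraMap T _ (bcSec σ T y) + algebraMap T _ (bcSec σ T z)) =
          (y - algebraMap T _ (bcSec σ T y)) + (z - algebraMap T _ (bcSec σ T z)) by ring]
        exact add_mem hy hz
    have := key x
    rwa [RingHom.mem_ker.mp hx, map_zero, sub_zero] at this
  · simp [RingHom.mem_ker.mp ha]

/-- A functional killing `I ^ n` kills `I ^ n` after base change. -/
theorem baseChange_apply_eq_zero {n : ℕ} {c : A →ₗ[R] R} (hc : ∀ x ∈ RingHom.ker σ ^ n, c x = 0)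
    {y : T ⊗[R] A} (hy : y ∈ RingHom.ker (bcSec σ T) ^ n) :
    TensorProduct.rid R T (LinearMap.lTensor T c y) = 0 := by
  rw [ker_bcSec, ← Ideal.map_pow] at hy
  suffices h : ∀ z, TensorProduct.rid R T (LinearMap.lTensor T c (z * y)) = 0 by simpa using h 1
  rw [Ideal.map] at hy
  induction hy using Submodule.span_induction with
  | mem y hy =>
    obtain ⟨x, hx, rfl⟩ := hy
    intro z
    induction z using TensorProduct.induction_on with
    | zero => simp
    | tmul t a =>
      rw [Algebra.TensorProduct.includeRight_apply, Algebra.TensorProduct.tmul_mul_tmul, LinearMap.lTensor_tmul,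
        hc _ (Ideal.mul_mem_left _ _ hx), tmul_zero, map_zero]
    | add z w hz hw => rw [add_mul, map_add, map_add, hz, hw, add_zero]
  | zero => simp
  | add y y' _ _ hy hy' => intro z; rw [mul_add, map_add, map_add, hy, hy', add_zero]
  | smul r y _ hy => intro z; rw [smul_eq_mul, ← mul_assoc]; exact hy _

/-- If `h` vanishes near the base changed section, its Taylor coefficients vanish. -/
theorem map_germIdeal_eq_bot (h : A) (e : T ⊗[R] A) (he : bcSec σ T e = 1) (he0 : e * (1 ⊗ₜ h) = 0) :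
    (germIdeal σ h).map (algebraMap R T) = ⊥ := by
  rw [germIdeal, Ideal.map_span, Ideal.span_eq_bot]
  rintro _ ⟨r, ⟨n, c, hc, rfl⟩, rfl⟩
  have h1 : ∀ m : ℕ, (1 : T) ⊗ₜ[R] h = (1 - e) ^ m * (1 ⊗ₜ h) := fun m => by
    induction m with
    | zero => simp
    | succ m ih => rw [pow_succ, mul_assoc, sub_mul, one_mul, he0, sub_zero]; exact ih
  have h2 : (1 : T) ⊗ₜ[R] h ∈ RingHom.ker (bcSec σ T) ^ n := by
    rw [h1 n]
    exact Ideal.mul_mem_right _ _ (Ideal.pow_mem_pow (by simp [RingHom.mem_ker, he]) n)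
  have h3 := baseChange_apply_eq_zero σ T hc h2
  rw [LinearMap.lTensor_tmul, TensorProduct.rid_tmul, ← Algebra.algebraMap_eq_smul_one] at h3
  exact h3

theorem mem_pow_of_map_germIdeal [Algebra.FormallySmooth R A] [Algebra.FiniteType R A] (h : A)
    (hJ : (germIdeal σ h).map (algebraMap R T) = ⊥) (n : ℕ) :
    (1 : T) ⊗ₜ[R] h ∈ RingHom.ker (bcSec σ T) ^ n := by
  obtain ⟨κ, _, e, c, hc, ha⟩ := exists_dualBasis σ n
  have h0 : ∀ k, algebraMap R T (c k h) = 0 := fun k => by
    rw [← Ideal.mem_bot, ← hJ]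
    exact Ideal.mem_map_of_mem _ (Ideal.subset_span ⟨n, c k, hc k, rfl⟩)
  rw [ker_bcSec, ← Ideal.map_pow]
  have h1 := Ideal.mem_map_of_mem (Algebra.TensorProduct.includeRight (A := T) (R := R)) (ha h)
  rwa [map_sub, map_sum, Finset.sum_eq_zero (fun k _ => by
    rw [map_mul, AlgHom.commutes, Algebra.TensorProduct.algebraMap_apply, h0, zero_tmul, zero_mul]), sub_zero,
    Algebra.TensorProduct.includeRight_apply] at h1

end BaseChange

theorem mem_pow_ker_of_equiv {B : Type u} [CommRing B] [Algebra R B] (ψ : B ≃ₐ[R] A) (τ : B →ₐ[R] R)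
    (hτ : σ.comp ψ.toAlgHom = τ) (b : B) (n : ℕ) (h : ψ b ∈ RingHom.ker σ ^ n) : b ∈ RingHom.ker τ ^ n := by
  have hle : RingHom.ker σ ≤ (RingHom.ker τ).comap ψ.symm.toRingEquiv.toRingHom := fun x hx => by
    rw [Ideal.mem_comap, RingHom.mem_ker, ← hτ]
    simpa using hx
  have h1 := Ideal.le_comap_pow _ n (Ideal.pow_right_mono hle n h)
  rwa [Ideal.mem_comap, show ψ.symm.toRingEquiv.toRingHom (ψ b) = b from ψ.symm_apply_apply b] at h1

set_option maxHeartbeats 1000000 in
set_option synthInstance.maxHeartbeats 200000 in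
/-- An element of a smooth algebra lying in all powers of the ideal of a section vanishes near the section. -/
theorem exists_annihilator [Algebra.Smooth R A] (h : A) (hh : ∀ n, h ∈ RingHom.ker σ ^ n) :
    ∃ e : A, σ e = 1 ∧ e * h = 0 := by
  classical
  obtain ⟨R₁, A₁, _, _, hR₁, hsm, ⟨φ⟩⟩ := Algebra.Smooth.exists_subalgebra_fg ℤ R A
  haveI := hsm
  obtain ⟨g, hg⟩ := Algebra.FiniteType.out (R := R₁) (A := A₁)
  obtain ⟨S₀, hS₀⟩ := TensorProduct.exists_finset (φ h)
  let G : Set R := (S₀.image Prod.fst : Set R) ∪ (g.image fun x => σ (φ.symm (1 ⊗ₜ x)) : Set R)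
  let R₀ : Subalgebra ℤ R := R₁ ⊔ Algebra.adjoin ℤ G
  have hR₀ : R₀.FG := hR₁.sup ⟨S₀.image Prod.fst ∪ g.image fun x => σ (φ.symm (1 ⊗ₜ x)), by simp [G]⟩
  letI : Algebra R₁ R₀ := (Subalgebra.inclusion (le_sup_left : R₁ ≤ R₀)).toRingHom.toAlgebra
  haveI : IsScalarTower R₁ R₀ R := IsScalarTower.of_algebraMap_eq fun _ => rfl
  haveI : IsNoetherianRing R₀ :=
    haveI : Algebra.FiniteType ℤ R₀ := (Subalgebra.fg_iff_finiteType R₀).mp hR₀
    Algebra.FiniteType.isNoetherianRing ℤ R₀
  let A₀ := R₀ ⊗[R₁] A₁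
  haveI : Algebra.Smooth R₀ A₀ := inferInstance
  haveI : IsNoetherianRing A₀ := Algebra.FiniteType.isNoetherianRing R₀ A₀
  let ψ : R ⊗[R₀] A₀ ≃ₐ[R] A := (Algebra.TensorProduct.cancelBaseChange R₁ R₀ R R A₁).trans φ.symm
  let j : A₀ →ₐ[R₀] A := (ψ.toAlgHom.restrictScalars R₀).comp Algebra.TensorProduct.includeRight
  have hj : Function.Injective j := by
    haveI : Module.Flat R₀ A₀ := inferInstance
    intro x y hxy
    exact Algebra.TensorProduct.includeRight_injective (A := R) (B := A₀) Subtype.val_injective (ψ.injective hxy)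
  have hmemG : ∀ r ∈ G, r ∈ R₀ := fun r hr =>
    (le_sup_right : Algebra.adjoin ℤ G ≤ R₀) (Algebra.subset_adjoin hr)
  obtain ⟨σ₀, hσ₀⟩ : ∃ σ₀ : A₀ →ₐ[R₀] R₀, ∀ x, (σ₀ x : R) = σ (j x) := by
    have hmem : ∀ x : A₀, σ (j x) ∈ R₀ := by
      intro x
      induction x using TensorProduct.induction_on with
      | zero => simp
      | tmul r a =>
        rw [show j (r ⊗ₜ[R₁] a) = (r : R) • φ.symm (1 ⊗ₜ a) by
          rw [← map_smul, smul_tmul', smul_eq_mul, mul_one]
          show φ.symm (Algebra.TensorProduct.cancelBaseChange R₁ R₀ R R A₁ (1 ⊗ₜ (r ⊗ₜ a))) = _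
          rw [Algebra.TensorProduct.cancelBaseChange_tmul, Algebra.smul_def, mul_one]
          rfl, map_smul, smul_eq_mul]
        refine R₀.mul_mem r.2 ?_
        have ha : a ∈ Algebra.adjoin R₁ (g : Set A₁) := hg ▸ Algebra.mem_top
        induction ha using Algebra.adjoin_induction with
        | mem a ha => exact hmemG _ (Or.inr (Finset.mem_coe.mpr (Finset.mem_image_of_mem _ ha)))
        | algebraMap r =>
          rw [show σ (φ.symm ((1 : R) ⊗ₜ[R₁] algebraMap R₁ A₁ r)) = (r : R) from
            (((σ.comp φ.symm.toAlgHom).restrictScalars R₁).comp Algebra.TensorProduct.includeRight).commutes r]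
          exact (le_sup_left : R₁ ≤ R₀) r.2
        | add a b _ _ ha hb => rw [tmul_add, map_add, map_add]; exact R₀.add_mem ha hb
        | mul a b _ _ ha hb =>
          rw [← one_mul (1 : R), ← Algebra.TensorProduct.tmul_mul_tmul, map_mul, map_mul]
          exact R₀.mul_mem ha hb
      | add x y hx hy => rw [map_add, map_add]; exact R₀.add_mem hx hy
    exact ⟨{ ((σ.restrictScalars R₀).comp j).toRingHom.codRestrict R₀ hmem with
        commutes' := fun r => Subtype.ext (((σ.restrictScalars R₀).comp j).commutes r) }, fun x => rfl⟩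
  obtain ⟨h₀, rfl⟩ : ∃ h₀, j h₀ = h := by
    refine ⟨∑ i ∈ S₀.attach, (⟨i.1.1, hmemG _ (Or.inl (Finset.mem_coe.mpr
      (Finset.mem_image_of_mem _ i.2)))⟩ : R₀) ⊗ₜ[R₁] i.1.2, ?_⟩
    rw [map_sum, ← φ.symm_apply_apply h, hS₀, map_sum, ← Finset.sum_attach S₀]
    refine Finset.sum_congr rfl fun i _ => ?_
    show φ.symm (Algebra.TensorProduct.cancelBaseChange R₁ R₀ R R A₁ (1 ⊗ₜ (_ ⊗ₜ i.1.2))) = _
    rw [Algebra.TensorProduct.cancelBaseChange_tmul, Algebra.smul_def, mul_one]
    rfl
  have hh₀ : ∀ n, h₀ ∈ RingHom.ker σ₀ ^ n := by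
    intro n
    obtain ⟨κ, _, e, c, hc, ha⟩ := exists_dualBasis σ₀ n
    have h0 : ∀ k, c k h₀ = 0 := fun k => by
      have h1 : (1 : R) ⊗ₜ[R₀] h₀ ∈ RingHom.ker (bcSec σ₀ R) ^ n := by
        have hψ : σ.comp ψ.toAlgHom = bcSec σ₀ R := by
          refine Algebra.TensorProduct.ext (by ext) (AlgHom.ext fun x => ?_)
          show σ (j x) = bcSec σ₀ R (1 ⊗ₜ x)
          rw [bcSec_tmul, one_mul, ← hσ₀]
          rfl
        exact mem_pow_ker_of_equiv σ ψ (bcSec σ₀ R) hψ ((1 : R) ⊗ₜ h₀) n (hh n)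
      have h2 := baseChange_apply_eq_zero σ₀ R (hc k) h1
      rw [LinearMap.lTensor_tmul, TensorProduct.rid_tmul, ← Algebra.algebraMap_eq_smul_one] at h2
      exact Subtype.val_injective h2
    have := ha h₀
    rwa [Finset.sum_eq_zero (fun k _ => by rw [h0, map_zero, zero_mul]), sub_zero] at this
  have hinf : h₀ ∈ (⨅ n : ℕ, RingHom.ker σ₀ ^ n • ⊤ : Submodule A₀ A₀) := by
    simp only [Submodule.mem_iInf, Ideal.smul_top_eq_map, Algebra.algebraMap_self, Ideal.map_id]
    exact hh₀
  obtain ⟨r, hr⟩ := ((RingHom.ker σ₀).mem_iInf_smul_pow_eq_bot_iff h₀).mp hinf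
  refine ⟨j (1 - r), ?_, ?_⟩
  · rw [← hσ₀, map_sub, map_one, RingHom.mem_ker.mp r.2]; simp
  · rw [← map_mul, sub_mul, one_mul, ← smul_eq_mul (r : A₀), hr, sub_self, map_zero]

/-- Over a base where the Taylor coefficients of `h` vanish, `h` vanishes near the section. -/
theorem exists_annihilator_bc [Algebra.Smooth R A] (h : A) (T : Type u) [CommRing T] [Algebra R T]
    (hJ : (germIdeal σ h).map (algebraMap R T) = ⊥) :
    ∃ e : T ⊗[R] A, bcSec σ T e = 1 ∧ e * (1 ⊗ₜ h) = 0 :=
  exists_annihilator (bcSec σ T) ((1 : T) ⊗ₜ h) fun n => mem_pow_of_map_germIdeal σ T h hJ n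

theorem includeRight_surjective (J : Ideal R) :
    Function.Surjective (Algebra.TensorProduct.includeRight : A →ₐ[R] (R ⧸ J) ⊗[R] A) := by
  intro x
  induction x using TensorProduct.induction_on with
  | zero => exact ⟨0, map_zero _⟩
  | tmul t a =>
    obtain ⟨r, rfl⟩ := Ideal.Quotient.mk_surjective t
    refine ⟨r • a, ?_⟩
    rw [Algebra.TensorProduct.includeRight_apply, ← TensorProduct.smul_tmul, Algebra.smul_def, mul_one]
    rfl
  | add x y hx hy =>
    obtain ⟨a, rfl⟩ := hx
    obtain ⟨b, rfl⟩ := hy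
    exact ⟨a + b, map_add _ _ _⟩

theorem one_tmul_eq_zero_iff (J : Ideal R) (a : A) :
    (1 : R ⧸ J) ⊗ₜ[R] a = 0 ↔ a ∈ J • (⊤ : Submodule R A) := by
  rw [← (TensorProduct.quotTensorEquivQuotSMul A J).map_eq_zero_iff,
    show (1 : R ⧸ J) ⊗ₜ[R] a = Ideal.Quotient.mk J 1 ⊗ₜ a from rfl,
    TensorProduct.quotTensorEquivQuotSMul_mk_tmul, one_smul, Submodule.Quotient.mk_eq_zero]

/-- The ideal of Taylor coefficients is finitely generated. -/
theorem fg_germIdeal [Algebra.Smooth R A] (h : A) : (germIdeal σ h).FG := by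
  classical
  let J := germIdeal σ h
  obtain ⟨e, he, he0⟩ := exists_annihilator_bc σ h (R ⧸ J) (by simp [J, Ideal.Quotient.algebraMap_eq])
  obtain ⟨a, rfl⟩ := includeRight_surjective J e
  rw [Algebra.TensorProduct.includeRight_apply, bcSec_tmul, one_mul, Ideal.Quotient.algebraMap_eq,
    ← (Ideal.Quotient.mk J).map_one, Ideal.Quotient.eq] at he
  rw [Algebra.TensorProduct.includeRight_apply, Algebra.TensorProduct.tmul_mul_tmul, one_mul,
    one_tmul_eq_zero_iff] at he0
  obtain ⟨J', hJ'le, hJ'fg, ha⟩ : ∃ J' : Ideal R, J' ≤ J ∧ J'.FG ∧ a * h ∈ J' • (⊤ : Submodule R A) := by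
    refine Submodule.smul_induction_on (p := fun x => ∃ J' : Ideal R, J' ≤ J ∧ J'.FG ∧ x ∈ J' • (⊤ : Submodule R A))
      he0 (fun r hr x _ => ⟨Ideal.span {r}, by simpa using hr, ⟨{r}, by simp⟩,
        Submodule.smul_mem_smul (Ideal.mem_span_singleton_self r) trivial⟩) fun x y hx hy => ?_
    · obtain ⟨J₁, l₁, g₁, m₁⟩ := hx
      obtain ⟨J₂, l₂, g₂, m₂⟩ := hy
      exact ⟨J₁ ⊔ J₂, sup_le l₁ l₂, Submodule.FG.sup g₁ g₂, add_mem (Submodule.smul_mono_left le_sup_left m₁)
        (Submodule.smul_mono_left le_sup_right m₂)⟩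
  let K := J' ⊔ Ideal.span {σ a - 1}
  have hK : K.FG := Submodule.FG.sup hJ'fg ⟨{σ a - 1}, by simp⟩
  have hle : K ≤ J := sup_le hJ'le (by simpa using he)
  have h1 : (germIdeal σ h).map (algebraMap R (R ⧸ K)) = ⊥ := by
    refine map_germIdeal_eq_bot σ (R ⧸ K) h (1 ⊗ₜ a) ?_ ?_
    · rw [bcSec_tmul, one_mul, Ideal.Quotient.algebraMap_eq, ← (Ideal.Quotient.mk K).map_one, Ideal.Quotient.eq]
      exact le_sup_right (α := Ideal R) (Ideal.mem_span_singleton_self _)
    · rw [Algebra.TensorProduct.tmul_mul_tmul, one_mul, one_tmul_eq_zero_iff]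
      exact Submodule.smul_mono_left le_sup_left ha
  have hge : J ≤ K := by
    rw [Ideal.map_eq_bot_iff_le_ker, Ideal.Quotient.algebraMap_eq, Ideal.mk_ker] at h1
    exact h1
  show J.FG
  rw [show J = K from le_antisymm hge hle]
  exact hK

theorem mul_one_tmul_eq_zero_of_span {T : Type u} [CommRing T] [Algebra R T] (E : T ⊗[R] A) (s : Set A)
    (hE : ∀ x ∈ s, E * (1 ⊗ₜ x) = 0) (h : A) (hh : h ∈ Submodule.span A s) : E * (1 ⊗ₜ h) = 0 := by
  induction hh using Submodule.span_induction with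
  | mem x hx => exact hE x hx
  | zero => rw [tmul_zero, mul_zero]
  | add x y _ _ hx hy => rw [tmul_add, mul_add, hx, hy, add_zero]
  | smul c x _ hx =>
    rw [smul_eq_mul, ← one_mul (1 : T), ← Algebra.TensorProduct.tmul_mul_tmul, mul_left_comm, hx, mul_zero]

theorem map_prod_eq_one {B C : Type u} [CommRing B] [CommRing C] (f : B →+* C) {ι : Type u} [Fintype ι] (e : ι → B)
    (he : ∀ i, f (e i) = 1) : f (∏ i, e i) = 1 := by
  rw [map_prod, Finset.prod_eq_one fun i _ => he i]

set_option maxHeartbeats 1000000 in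
theorem map_germIdeal_eq_bot_of_span [Algebra.Smooth R A] (T : Type u) [CommRing T] [Algebra R T] (s : Finset A)
    (hs : ∀ x : ↥s, (germIdeal σ x.1).map (algebraMap R T) = ⊥) (h : A) (hh : h ∈ Submodule.span A (s : Set A)) :
    (germIdeal σ h).map (algebraMap R T) = ⊥ := by
  classical
  choose e he he0 using fun x : ↥s => exists_annihilator_bc σ (x : A) T (hs x)
  have hE : bcSec σ T (∏ x, e x) = 1 := map_prod_eq_one (bcSec σ T).toRingHom e he
  refine map_germIdeal_eq_bot σ T h (∏ x, e x) hE ?_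
  refine mul_one_tmul_eq_zero_of_span (∏ x, e x) (s : Set A) (fun x hx => ?_) h hh
  rw [← Finset.prod_erase_mul _ e (Finset.mem_univ (⟨x, hx⟩ : ↥s)), mul_assoc, he0 ⟨x, hx⟩, mul_zero]

/-- The coefficient ideal of a member of a finitely generated ideal lies below those of the generators. -/
theorem germIdeal_le_of_mem_span [Algebra.Smooth R A] (s : Finset A) (h : A)
    (hh : h ∈ Submodule.span A (s : Set A)) : germIdeal σ h ≤ ⨆ x : ↥s, germIdeal σ x.1 := by
  have hker : RingHom.ker (algebraMap R (R ⧸ ⨆ x : ↥s, germIdeal σ x.1)) = ⨆ x : ↥s, germIdeal σ x.1 := Ideal.mk_ker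
  rw [← hker, ← Ideal.map_eq_bot_iff_le_ker]
  refine map_germIdeal_eq_bot_of_span σ _ s (fun x => ?_) h hh
  rw [Ideal.map_eq_bot_iff_le_ker, hker]
  exact le_iSup (fun x : ↥s => germIdeal σ x.1) x

end Groth.Agent.SecGerm
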