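import Mathlib
import Groth.Agent.SecGerm.Alg
import Groth.Agent.FlatMisc.SpreadSmooth

/-!
# Elements of smooth algebras vanishing at the generic points of all fibres
-/

universe u

open TensorProduct

set_option linter.style.haveILetI false

namespace Groth.Agent.SecGerm

variable {R A : Type u} [CommRing R] [CommRing A] [Algebra R A]

/-- `P` is minimal in its fibre over `R`. -/
def IsFibreMinimal (R : Type u) {A : Type u} [CommRing R] [CommRing A] [Algebra R A] (P : Ideal A) : Prop :=
  ∀ P' : Ideal A, P'.IsPrime → P' ≤ P → P'.comap (algebraMap R A) = P.comap (algebraMap R A) → P' = P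

set_option maxHeartbeats 1000000 in
theorem exists_smul_eq_zero [IsNoetherianRing R] [Module.Flat R A]
    (hred : ∀ (p : Ideal R) (_ : p.IsPrime), IsReduced (p.Fiber A)) {P : Ideal A} [P.IsPrime]
    (hP : ¬ IsFibreMinimal R P) (p : Ideal R) [p.IsPrime] (hp : P.comap (algebraMap R A) = p)
    (M : Type u) [AddCommGroup M] [Module R M] [Module.Finite R M] :
    (∀ x ∈ p, ∀ m : M, x • m = 0) → ∀ y : M ⊗[R] A,
      (∀ z ∈ P, LinearMap.lTensor M (LinearMap.mulLeft R z) y = 0) → ∃ s ∉ p, s • y = 0 := by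
  induction ‹Module.Finite R M› using IsNoetherianRing.induction_on_isQuotientEquivQuotientPrime R with
  | subsingleton N =>
    exact fun _ y _ => ⟨1, fun h => ‹p.IsPrime›.ne_top ((Ideal.eq_top_iff_one p).mpr h), Subsingleton.elim _ _⟩
  | quotient N q f =>
    intro hN y hy
    have hpq : p ≤ q.1 := fun x hx => by
      have h := congrArg f (hN x hx (f.symm (Submodule.Quotient.mk 1)))
      rw [map_smul, f.apply_symm_apply, map_zero, ← Submodule.Quotient.mk_smul, Submodule.Quotient.mk_eq_zero] at h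
      simpa using h
    by_cases hqp : q.1 ≤ p
    swap
    · obtain ⟨s, hsq, hsp⟩ := SetLike.not_le_iff_exists.mp hqp
      refine ⟨s, hsp, ?_⟩
      have hs : ∀ n : N, s • n = 0 := fun n => by
        apply f.injective
        rw [map_smul, map_zero]
        obtain ⟨r, hr⟩ := Submodule.Quotient.mk_surjective _ (f n)
        rw [← hr, ← Submodule.Quotient.mk_smul, Submodule.Quotient.mk_eq_zero]
        exact Ideal.mul_mem_right _ _ hsq
      have : ∀ w : N ⊗[R] A, s • w = 0 := fun w => by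
        induction w using TensorProduct.induction_on with
        | zero => simp
        | tmul n a => rw [smul_tmul', hs, zero_tmul]
        | add a b ha hb => rw [smul_add, ha, hb, add_zero]
      exact this y
    · have hq : q.1 = p := le_antisymm hqp hpq
      let g₀ : (R ⧸ q.1) →ₗ[R] p.ResidueField :=
        Submodule.liftQ q.1 (Algebra.linearMap R p.ResidueField) (by
          intro x hx
          rw [LinearMap.mem_ker, Algebra.linearMap_apply, Ideal.algebraMap_residueField_eq_zero]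
          exact hqp hx)
      have hg₀ : Function.Injective g₀ := by
        rw [← LinearMap.ker_eq_bot]
        refine Submodule.ker_liftQ_eq_bot _ _ _ fun x hx => ?_
        rw [LinearMap.mem_ker, Algebra.linearMap_apply, Ideal.algebraMap_residueField_eq_zero] at hx
        exact hpq hx
      let g : N →ₗ[R] p.ResidueField := g₀ ∘ₗ f.toLinearMap
      have hginj : Function.Injective (LinearMap.rTensor A g) :=
        Module.Flat.rTensor_preserves_injective_linearMap g (hg₀.comp f.injective)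
      let b : p.Fiber A := LinearMap.rTensor A g y
      have hb : ∀ z ∈ P, (1 ⊗ₜ z) * b = 0 := fun z hz => by
        have key : ∀ w : p.Fiber A, LinearMap.lTensor p.ResidueField (LinearMap.mulLeft R z) w = (1 ⊗ₜ z) * w := by
          intro w
          induction w using TensorProduct.induction_on with
          | zero => simp
          | tmul c a => simp [Algebra.TensorProduct.tmul_mul_tmul]
          | add u v hu hv => rw [map_add, hu, hv, mul_add]
        rw [← key]
        show LinearMap.lTensor _ _ (LinearMap.rTensor A g y) = 0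
        rw [← LinearMap.comp_apply, LinearMap.lTensor_comp_rTensor, ← LinearMap.rTensor_comp_lTensor,
          LinearMap.comp_apply, hy z hz, map_zero]
      refine ⟨1, fun h => ‹p.IsPrime›.ne_top ((Ideal.eq_top_iff_one p).mpr h), ?_⟩
      rw [one_smul]
      apply hginj
      rw [map_zero]
      by_contra hb0
      haveI := hred p inferInstance
      obtain ⟨Q, hQ, hbQ⟩ : ∃ Q : Ideal (p.Fiber A), Q.IsPrime ∧ b ∉ Q := by
        by_contra hcon
        push Not at hcon
        exact hb0 (IsReduced.eq_zero b (nilpotent_iff_mem_prime.mpr fun J hJ => hcon J hJ))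
      obtain ⟨Q₀, hQ₀, hQ₀Q⟩ := Ideal.exists_minimalPrimes_le (I := (⊥ : Ideal (p.Fiber A))) (J := Q) bot_le
      haveI := hQ₀.1.1
      let e := PrimeSpectrum.primesOverOrderIsoFiber R A p
      let P₀ := e.symm ⟨Q₀, hQ₀.1.1⟩
      obtain ⟨P', hP', hP'le, hP'p, hne⟩ : ∃ P' : Ideal A, P'.IsPrime ∧ P' ≤ P ∧
          P'.comap (algebraMap R A) = p ∧ P' ≠ P := by
        unfold IsFibreMinimal at hP
        push Not at hP
        obtain ⟨P', h1, h2, h3, h4⟩ := hP
        exact ⟨P', h1, h2, h3.trans hp, h4⟩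
      have hPP₀ : P ≤ P₀.1 := fun z hz => by
        have h1 : (1 ⊗ₜ z : p.Fiber A) ∈ Q₀ :=
          (hQ₀.1.1.mem_or_mem (by rw [hb z hz]; exact zero_mem _)).resolve_right fun h => hbQ (hQ₀Q h)
        exact h1
      let P'' : p.primesOver A := ⟨P', hP', ⟨hP'p.symm⟩⟩
      have hle : e P'' ≤ ⟨Q₀, hQ₀.1.1⟩ := by
        rw [← e.apply_symm_apply ⟨Q₀, hQ₀.1.1⟩]
        exact e.monotone (hP'le.trans hPP₀)
      have heq : e P'' = ⟨Q₀, hQ₀.1.1⟩ :=
        PrimeSpectrum.ext (le_antisymm hle (hQ₀.2 ⟨(e P'').2, bot_le⟩ hle))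
      refine hne (le_antisymm hP'le ?_)
      have : P₀ = P'' := by rw [← e.symm_apply_apply P'', heq]
      exact hPP₀.trans (le_of_eq (congrArg Subtype.val this))
  | exact N₁ N₂ N₃ f g hf hg hfg h₁ h₃ =>
    intro hN y hy
    have hN₁ : ∀ x ∈ p, ∀ m : N₁, x • m = 0 := fun x hx m => hf (by rw [map_smul, map_zero, hN x hx])
    have hN₃ : ∀ x ∈ p, ∀ m : N₃, x • m = 0 := fun x hx m => by
      obtain ⟨m, rfl⟩ := hg m
      rw [← map_smul, hN x hx, map_zero]
    obtain ⟨s, hs, hsy⟩ := h₃ hN₃ (LinearMap.rTensor A g y) fun z hz => by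
      rw [← LinearMap.comp_apply, LinearMap.lTensor_comp_rTensor, ← LinearMap.rTensor_comp_lTensor,
        LinearMap.comp_apply, hy z hz, map_zero]
    rw [← map_smul] at hsy
    obtain ⟨y₁, hy₁⟩ := (rTensor_exact A hfg hg (s • y)).mp hsy
    have hfinj := Module.Flat.rTensor_preserves_injective_linearMap (M := A) f hf
    obtain ⟨t, ht, hty⟩ := h₁ hN₁ y₁ fun z hz => hfinj (by
      rw [← LinearMap.comp_apply, LinearMap.rTensor_comp_lTensor, ← LinearMap.lTensor_comp_rTensor,
        LinearMap.comp_apply, hy₁, map_smul, hy z hz, smul_zero, map_zero])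
    exact ⟨t * s, fun h => (‹p.IsPrime›.mem_or_mem h).elim ht hs, by
      rw [mul_smul, ← hy₁, ← map_smul, hty, map_zero]⟩

/-- The support of an element of a flat algebra with reduced fibres contains a prime minimal in its fibre and
lying over an associated prime of the base. -/
theorem exists_fibreMinimal [IsNoetherianRing R] [IsNoetherianRing A] [Module.Flat R A]
    (hred : ∀ (p : Ideal R) (_ : p.IsPrime), IsReduced (p.Fiber A)) (e h : A) (he : e * h = 0) (hh : h ≠ 0) :
    ∃ P : Ideal A, P.IsPrime ∧ e ∈ P ∧ IsFibreMinimal R P ∧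
      ∃ m : R, ∀ r : R, r * m = 0 ↔ r ∈ P.comap (algebraMap R A) := by
  classical
  obtain ⟨P, hP, hle⟩ := exists_le_isAssociatedPrime_of_isNoetherianRing A h hh
  obtain ⟨hPp, a, hPa⟩ := isAssociatedPrime_iff.mp hP
  have hPmem : ∀ z, z ∈ P ↔ z * a = 0 := fun z => by rw [hPa]; simp [Submodule.mem_colon_singleton]
  let p := P.comap (algebraMap R A)
  obtain ⟨s, hs⟩ : p.FG := IsNoetherian.noetherian p
  let π : R →ₗ[R] (↥s → R) := LinearMap.pi fun x => LinearMap.mulLeft R x.1
  let M := LinearMap.ker π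
  have hM : ∀ r : R, r ∈ M ↔ ∀ x ∈ p, x * r = 0 := fun r => by
    refine ⟨fun hr x hx => ?_, fun hr => ?_⟩
    · rw [← hs] at hx
      induction hx using Submodule.span_induction with
      | mem x hx => exact congrFun (LinearMap.mem_ker.mp hr) ⟨x, hx⟩
      | zero => simp
      | add x y _ _ hx hy => rw [add_mul, hx, hy, add_zero]
      | smul c x _ hx => rw [smul_eq_mul, mul_assoc, hx, mul_zero]
    · rw [LinearMap.mem_ker]
      ext x
      exact hr x.1 (hs ▸ Submodule.subset_span x.2)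
  obtain ⟨y, hy⟩ : ∃ y : M ⊗[R] A, LinearMap.rTensor A M.subtype y = 1 ⊗ₜ a := by
    refine ((Module.Flat.rTensor_exact A (LinearMap.exact_subtype_ker_map π)) ((1 : R) ⊗ₜ a)).mp ?_
    rw [LinearMap.rTensor_tmul]
    have h1 : π 1 = ∑ x : ↥s, x.1 • Pi.single x (1 : R) := by
      ext x
      simp [π, Finset.sum_apply, Pi.single_apply]
    rw [h1, sum_tmul]
    refine Finset.sum_eq_zero fun x _ => ?_
    have hx : algebraMap R A x.1 ∈ P := (hs ▸ Submodule.subset_span x.2 : x.1 ∈ p)
    rw [smul_tmul, Algebra.smul_def, (hPmem _).mp hx, tmul_zero]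
  have hinj := Module.Flat.rTensor_preserves_injective_linearMap (M := A) M.subtype Subtype.val_injective
  have hyP : ∀ z ∈ P, LinearMap.lTensor M (LinearMap.mulLeft R z) y = 0 := fun z hz => hinj (by
    rw [← LinearMap.comp_apply, LinearMap.rTensor_comp_lTensor, ← LinearMap.lTensor_comp_rTensor,
      LinearMap.comp_apply, hy, LinearMap.lTensor_tmul, map_zero, LinearMap.mulLeft_apply, (hPmem z).mp hz,
      tmul_zero])
  have hnot : ∀ t ∉ p, t • y ≠ 0 := fun t ht h0 => ht (by
    have h1 := congrArg (LinearMap.rTensor A M.subtype) h0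
    rw [map_smul, hy, map_zero, smul_tmul', smul_eq_mul, mul_one] at h1
    have h2 := congrArg (TensorProduct.lid R A) h1
    rw [TensorProduct.lid_tmul, map_zero, Algebra.smul_def] at h2
    exact (hPmem _).mpr h2)
  refine ⟨P, hPp, hle (by simp [Submodule.mem_colon_singleton, he]), ?_, ?_⟩
  · by_contra hmin
    haveI := hPp
    obtain ⟨t, ht, hty⟩ := exists_smul_eq_zero hred hmin p rfl M
      (fun x hx m => Subtype.ext (by simpa using (hM m.1).mp m.2 x hx)) y hyP
    exact hnot t ht hty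
  · haveI := hPp
    by_contra hcon
    push Not at hcon
    have hall : ∀ m ∈ M, ∃ t ∉ p, t * m = 0 := fun m hm => by
      obtain ⟨r, hr⟩ := hcon m
      rcases hr with ⟨h1, h2⟩ | ⟨h1, h2⟩
      · exact ⟨r, h2, h1⟩
      · exact absurd ((hM m).mp hm r h2) h1
    obtain ⟨g, hg⟩ : M.FG := IsNoetherian.noetherian M
    choose! t ht ht0 using hall
    have hgm : ∀ m ∈ g, m ∈ M := fun m hm => hg ▸ Submodule.subset_span hm
    refine hnot (∏ m ∈ g, t m) (fun h => ?_) ?_
    · obtain ⟨m, hm, hmem⟩ := Ideal.IsPrime.prod_mem_iff.mp h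
      exact ht m (hgm m hm) hmem
    · have hk : ∀ m : M, (∏ i ∈ g, t i) • m = 0 := fun m => Subtype.ext (by
        have hm : (m : R) ∈ Submodule.span R (g : Set R) := hg.symm.le m.2
        show (∏ i ∈ g, t i) * (m : R) = 0
        generalize (m : R) = r at hm
        induction hm using Submodule.span_induction with
        | mem r hr =>
          rw [← Finset.prod_erase_mul g t hr, mul_assoc, ht0 r (hgm r hr), mul_zero]
        | zero => simp
        | add a b _ _ ha hb => rw [mul_add, ha, hb, add_zero]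
        | smul c a _ ha => rw [smul_eq_mul, mul_left_comm, ha, mul_zero])
      clear hy hyP hnot
      induction y using TensorProduct.induction_on with
      | zero => simp
      | tmul n a => rw [smul_tmul', hk, zero_tmul]
      | add a b ha hb => rw [smul_add, ha, hb, add_zero]

/-- Every prime contains a prime minimal in its fibre. -/
theorem exists_fibreMinimal_le (P : Ideal A) [P.IsPrime] :
    ∃ P' : Ideal A, P'.IsPrime ∧ P' ≤ P ∧ P'.comap (algebraMap R A) = P.comap (algebraMap R A) ∧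
      IsFibreMinimal R P' := by
  let p := P.comap (algebraMap R A)
  obtain ⟨P', hP', hle⟩ := Ideal.exists_minimalPrimes_le (I := p.map (algebraMap R A)) (J := P) Ideal.map_comap_le
  haveI := hP'.1.1
  have hP'p : P'.comap (algebraMap R A) = p :=
    le_antisymm (Ideal.comap_mono hle) (Ideal.map_le_iff_le_comap.mp hP'.1.2)
  refine ⟨P', hP'.1.1, hle, hP'p, fun P'' h1 h2 h3 => le_antisymm h2 (hP'.2 ⟨h1, ?_⟩ h2)⟩
  rw [Ideal.map_le_iff_le_comap, h3, hP'p]

theorem exists_prime_tensor {R₀ B : Type u} [CommRing R₀] [CommRing B] [Algebra R₀ R] [Algebra R₀ B]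
    (Q : Ideal R) [Q.IsPrime] (P : Ideal B) [P.IsPrime]
    (h : Q.comap (algebraMap R₀ R) = P.comap (algebraMap R₀ B)) :
    ∃ P' : PrimeSpectrum (R ⊗[R₀] B), PrimeSpectrum.comap (algebraMap R (R ⊗[R₀] B)) P' = ⟨Q, inferInstance⟩ ∧
      PrimeSpectrum.comap (Algebra.TensorProduct.includeRight (A := R) (B := B) (R := R₀)).toRingHom P' =
        ⟨P, inferInstance⟩ := by
  let p := Q.comap (algebraMap R₀ R)
  haveI : p.IsPrime := Ideal.IsPrime.comap _
  letI : Algebra p.ResidueField Q.ResidueField := (Ideal.ResidueField.map p Q (algebraMap R₀ R) rfl).toAlgebra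
  letI : Algebra p.ResidueField P.ResidueField := (Ideal.ResidueField.map p P (algebraMap R₀ B) h).toAlgebra
  haveI : IsScalarTower R₀ p.ResidueField Q.ResidueField := IsScalarTower.of_algebraMap_eq fun x => by
    rw [RingHom.algebraMap_toAlgebra, Ideal.ResidueField.map_algebraMap, ← IsScalarTower.algebraMap_apply]
  haveI : IsScalarTower R₀ p.ResidueField P.ResidueField := IsScalarTower.of_algebraMap_eq fun x => by
    rw [RingHom.algebraMap_toAlgebra, Ideal.ResidueField.map_algebraMap, ← IsScalarTower.algebraMap_apply]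
  haveI : Nontrivial (Q.ResidueField ⊗[p.ResidueField] P.ResidueField) := inferInstance
  obtain ⟨M, hM⟩ := Ideal.exists_maximal (Q.ResidueField ⊗[p.ResidueField] P.ResidueField)
  let f : R ⊗[R₀] B →ₐ[R₀] Q.ResidueField ⊗[p.ResidueField] P.ResidueField :=
    Algebra.TensorProduct.lift
      ((((Algebra.TensorProduct.includeLeft : Q.ResidueField →ₐ[p.ResidueField] _)).restrictScalars R₀).comp
        (IsScalarTower.toAlgHom R₀ R Q.ResidueField))
      ((((Algebra.TensorProduct.includeRight : P.ResidueField →ₐ[p.ResidueField] _)).restrictScalars R₀).comp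
        (IsScalarTower.toAlgHom R₀ B P.ResidueField))
      fun _ _ => Commute.all _ _
  haveI := hM.isPrime
  refine ⟨⟨M.comap f.toRingHom, Ideal.IsPrime.comap _⟩, PrimeSpectrum.ext ?_, PrimeSpectrum.ext ?_⟩
  · have hbot : M.comap (Algebra.TensorProduct.includeLeft :
        Q.ResidueField →ₐ[p.ResidueField] _).toRingHom = ⊥ :=
      (Ideal.eq_bot_or_top _).resolve_right (Ideal.IsPrime.comap _).ne_top
    ext x
    show f (algebraMap R (R ⊗[R₀] B) x) ∈ M ↔ x ∈ Q
    rw [← Ideal.algebraMap_residueField_eq_zero (I := Q), ← Ideal.mem_bot, ← hbot]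
    simp [f]
  · have hbot : M.comap (Algebra.TensorProduct.includeRight :
        P.ResidueField →ₐ[p.ResidueField] Q.ResidueField ⊗[p.ResidueField] P.ResidueField).toRingHom = ⊥ :=
      (Ideal.eq_bot_or_top _).resolve_right (Ideal.IsPrime.comap _).ne_top
    ext x
    show f (1 ⊗ₜ x) ∈ M ↔ x ∈ P
    rw [← Ideal.algebraMap_residueField_eq_zero (I := P), ← Ideal.mem_bot, ← hbot]
    simp [f]

/-- The fibres of a smooth algebra are reduced. -/
theorem isReduced_fibre [Algebra.Smooth R A] (p : Ideal R) [p.IsPrime] : IsReduced (p.Fiber A) := by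
  haveI := FlatMisc.SpreadRed.smooth_isGeometricallyReduced p.ResidueField (p.Fiber A)
  exact Algebra.isReduced_of_isGeometricallyReduced (k := p.ResidueField)

theorem exists_descent [Algebra.Smooth R A] (s : Finset A) :
    ∃ (R₀ : Subalgebra ℤ R) (A₀ : Type u) (_ : CommRing A₀) (_ : Algebra R₀ A₀) (_ : Algebra.Smooth R₀ A₀)
      (_ : IsNoetherianRing R₀) (ψ : R ⊗[R₀] A₀ ≃ₐ[R] A),
      ∀ a ∈ s, ∃ a₀ : A₀, ψ (1 ⊗ₜ a₀) = a := by
  classical
  obtain ⟨R₁, A₁, _, _, hR₁, hsm, ⟨φ⟩⟩ := Algebra.Smooth.exists_subalgebra_fg ℤ R A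
  haveI := hsm
  choose S hS using fun a : A => TensorProduct.exists_finset (φ a)
  let G : Finset R := s.biUnion fun a => (S a).image Prod.fst
  let R₀ : Subalgebra ℤ R := R₁ ⊔ Algebra.adjoin ℤ (G : Set R)
  have hR₀ : R₀.FG := hR₁.sup ⟨G, rfl⟩
  letI : Algebra R₁ R₀ := (Subalgebra.inclusion (le_sup_left : R₁ ≤ R₀)).toRingHom.toAlgebra
  haveI : IsScalarTower R₁ R₀ R := IsScalarTower.of_algebraMap_eq fun _ => rfl
  haveI : IsNoetherianRing R₀ :=
    haveI : Algebra.FiniteType ℤ R₀ := (Subalgebra.fg_iff_finiteType R₀).mp hR₀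
    Algebra.FiniteType.isNoetherianRing ℤ R₀
  let A₀ := R₀ ⊗[R₁] A₁
  let ψ : R ⊗[R₀] A₀ ≃ₐ[R] A := (Algebra.TensorProduct.cancelBaseChange R₁ R₀ R R A₁).trans φ.symm
  refine ⟨R₀, A₀, inferInstance, inferInstance, inferInstance, inferInstance, ψ, fun a ha => ?_⟩
  have hmem : ∀ i : ↥(S a), i.1.1 ∈ R₀ := fun i => (le_sup_right : Algebra.adjoin ℤ (G : Set R) ≤ R₀)
    (Algebra.subset_adjoin (Finset.mem_coe.mpr (Finset.mem_biUnion.mpr ⟨a, ha, Finset.mem_image_of_mem _ i.2⟩)))
  refine ⟨∑ i ∈ (S a).attach, (⟨i.1.1, hmem i⟩ : R₀) ⊗ₜ[R₁] i.1.2, ?_⟩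
  refine Eq.trans ?_ (φ.symm_apply_apply a)
  rw [tmul_sum, map_sum, hS a, map_sum, ← Finset.sum_attach (S a)]
  refine Finset.sum_congr rfl fun i _ => ?_
  show φ.symm (Algebra.TensorProduct.cancelBaseChange R₁ R₀ R R A₁ (1 ⊗ₜ (_ ⊗ₜ i.1.2))) = _
  rw [Algebra.TensorProduct.cancelBaseChange_tmul, Algebra.smul_def, mul_one]
  rfl

set_option maxHeartbeats 1000000 in
set_option synthInstance.maxHeartbeats 200000 in
/-- An element of a smooth algebra killed by an element avoiding the primes minimal in their fibres is zero. -/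
theorem eq_zero_of_fibreMinimal [Algebra.Smooth R A] (e h : A) (he : e * h = 0)
    (hmin : ∀ P : Ideal A, P.IsPrime → IsFibreMinimal R P → e ∉ P) : h = 0 := by
  classical
  obtain ⟨R₀, A₀, _, _, hsm, hnoe, ψ, hψ⟩ := exists_descent (R := R) ({e, h} : Finset A)
  haveI := hsm
  haveI := hnoe
  haveI : IsNoetherianRing A₀ := Algebra.FiniteType.isNoetherianRing R₀ A₀
  haveI : Module.Flat R₀ A₀ := inferInstance
  obtain ⟨e₀, rfl⟩ := hψ e (by simp)
  obtain ⟨h₀, rfl⟩ := hψ h (by simp)
  have hinj : Function.Injective (fun a : A₀ => ψ ((1 : R) ⊗ₜ a)) := fun a b hab =>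
    Algebra.TensorProduct.includeRight_injective (A := R) (B := A₀) Subtype.val_injective (ψ.injective hab)
  have he₀ : e₀ * h₀ = 0 := hinj (by
    show ψ (1 ⊗ₜ (e₀ * h₀)) = ψ (1 ⊗ₜ 0)
    rw [tmul_zero, map_zero, ← he, ← map_mul, Algebra.TensorProduct.tmul_mul_tmul, one_mul])
  by_contra hne
  have hh₀ : h₀ ≠ 0 := fun h0 => hne (by rw [h0, tmul_zero, map_zero])
  obtain ⟨P₀, hP₀, heP, hPmin, m, hm⟩ :=
    exists_fibreMinimal (R := R₀) (fun p _ => isReduced_fibre p) e₀ h₀ he₀ hh₀
  haveI := hP₀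
  let p : Ideal R₀ := P₀.comap (algebraMap R₀ A₀)
  haveI : p.IsPrime := Ideal.IsPrime.comap _
  obtain ⟨Q, hQ, hQp⟩ : ∃ Q : Ideal R, Q.IsPrime ∧ Q.comap (algebraMap R₀ R) = p := by
    let I : Ideal R := LinearMap.ker (LinearMap.mulLeft R (m : R))
    have hI : ∀ r : R₀, (r : R) ∈ I ↔ r ∈ p := fun r => by
      rw [← hm r, LinearMap.mem_ker, LinearMap.mulLeft_apply, mul_comm]
      exact ⟨fun h => Subtype.ext h, fun h => congrArg Subtype.val h⟩
    have hd : Disjoint (I : Set R) ((p.primeCompl.map (algebraMap R₀ R)) : Set R) := by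
      rw [Set.disjoint_right]
      rintro _ ⟨r, hr, rfl⟩ hmem
      exact hr ((hI r).mp hmem)
    obtain ⟨Q, hQ, hIQ, hQd⟩ := Ideal.exists_le_prime_disjoint I _ hd
    refine ⟨Q, hQ, le_antisymm (fun r hr => ?_) fun r hr => hIQ ((hI r).mpr hr)⟩
    by_contra hrp
    exact Set.disjoint_left.mp hQd hr ⟨r, hrp, rfl⟩
  obtain ⟨P', hP'Q, hP'P⟩ : ∃ P' : PrimeSpectrum (R ⊗[R₀] A₀),
      PrimeSpectrum.comap (algebraMap R (R ⊗[R₀] A₀)) P' = ⟨Q, hQ⟩ ∧
      PrimeSpectrum.comap (Algebra.TensorProduct.includeRight (A := R) (B := A₀) (R := R₀)).toRingHom P' =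
        ⟨P₀, hP₀⟩ :=
    exists_prime_tensor Q P₀ (hQp.trans rfl)
  haveI := hQ
  obtain ⟨Pm, hPm, hPmP, hPmQ, hmm⟩ := exists_fibreMinimal_le (R := R) P'.asIdeal
  have hcomap : Pm.comap (Algebra.TensorProduct.includeRight (A := R) (B := A₀) (R := R₀)).toRingHom = P₀ := by
    have h1 : P'.asIdeal.comap (Algebra.TensorProduct.includeRight (A := R) (B := A₀) (R := R₀)).toRingHom = P₀ :=
      congrArg PrimeSpectrum.asIdeal hP'P
    haveI := hPm
    refine hPmin _ (Ideal.IsPrime.comap _) ((Ideal.comap_mono hPmP).trans h1.le) ?_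
    have h2 : P'.asIdeal.comap (algebraMap R (R ⊗[R₀] A₀)) = Q := congrArg PrimeSpectrum.asIdeal hP'Q
    ext r
    simp only [Ideal.mem_comap]
    have h3 : (Algebra.TensorProduct.includeRight (A := R) (B := A₀) (R := R₀)).toRingHom (algebraMap R₀ A₀ r) =
        algebraMap R (R ⊗[R₀] A₀) (algebraMap R₀ R r) :=
      ((Algebra.TensorProduct.includeRight (A := R) (B := A₀) (R := R₀)).commutes r).trans
        (IsScalarTower.algebraMap_apply R₀ R _ r)
    rw [h3]
    show algebraMap R₀ R r ∈ Pm.comap _ ↔ r ∈ p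
    rw [hPmQ, h2, ← hQp]
    rfl
  haveI := hPm
  refine hmin (Pm.comap ψ.symm.toRingEquiv.toRingHom) (Ideal.IsPrime.comap _) (fun P hP hle hu => ?_) ?_
  · have h1 : P.comap ψ.toRingEquiv.toRingHom = Pm := by
      refine hmm _ (Ideal.IsPrime.comap _) (fun x hx => ?_) ?_
      · have := hle hx
        simpa using this
      · ext r
        have := SetLike.ext_iff.mp hu r
        rw [Ideal.mem_comap, Ideal.mem_comap, Ideal.mem_comap,
          show ψ.symm.toRingEquiv.toRingHom (algebraMap R A r) = algebraMap R _ r from ψ.symm.commutes r] at this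
        rw [Ideal.mem_comap, Ideal.mem_comap, Ideal.mem_comap,
          show ψ.toRingEquiv.toRingHom (algebraMap R _ r) = algebraMap R A r from ψ.commutes r]
        exact this
    rw [← h1]
    ext x
    simp
  · rw [Ideal.mem_comap]
    show ψ.symm (ψ (1 ⊗ₜ e₀)) ∈ Pm
    rw [ψ.symm_apply_apply]
    rw [← hcomap] at heP
    exact heP

end Groth.Agent.SecGerm
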