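import Groth.Agent.SecGerm.Dense
import Groth.Agent.TransLib.EssFree
import Groth.Agent.GrpSchLib.CoincidenceFP
import Mathlib

/-!
# Universal closed subschemes along smooth morphisms with a section and irreducible fibres
-/

universe u

open CategoryTheory CategoryTheory.Limits AlgebraicGeometry TopologicalSpace TensorProduct

set_option backward.isDefEq.respectTransparency false
set_option linter.style.haveILetI false

namespace Groth.Agent.SecGerm

open GrpSchLib

/-- Every nonempty fibre of `p` has a generic point. -/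
def GenFib {Q T : Scheme.{u}} (p : Q ⟶ T) : Prop :=
  ∀ y₀ : Q, ∃ g : Q, p g = p y₀ ∧ ∀ y : Q, p y = p y₀ → g ⤳ y

/-- An element vanishing at the generic points of the fibres vanishes. -/
theorem eq_zero_of_genFib {Q T : Scheme.{u}} (p : Q ⟶ T) (hgen : GenFib p) {R A : Type u} [CommRing R] [CommRing A]
    [Algebra R A] [Algebra.Smooth R A] (v : Spec (CommRingCat.of A) ⟶ Q) [IsOpenImmersion v]
    (c : Spec (CommRingCat.of R) ⟶ T) (hc : Function.Injective c)
    (hv : v ≫ p = Spec.map (CommRingCat.ofHom (algebraMap R A)) ≫ c)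
    (e h : A) (he : e * h = 0)
    (hw : ∀ P : PrimeSpectrum A, ∃ w : PrimeSpectrum A,
      e ∉ w.asIdeal ∧ w.asIdeal.comap (algebraMap R A) = P.asIdeal.comap (algebraMap R A)) : h = 0 := by
  refine eq_zero_of_fibreMinimal (R := R) e h he fun P hP hmin => ?_
  obtain ⟨w, hwe, hwP⟩ := hw ⟨P, hP⟩
  have hp : ∀ z : PrimeSpectrum A, p (v z) = c (PrimeSpectrum.comap (algebraMap R A) z) := fun z => by
    rw [← Scheme.Hom.comp_apply, hv, Scheme.Hom.comp_apply]
    rfl
  obtain ⟨g, hg, hgen'⟩ := hgen (v (⟨P, hP⟩ : PrimeSpectrum A))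
  have hgP : g ⤳ v (⟨P, hP⟩ : PrimeSpectrum A) := hgen' _ rfl
  have hgw : g ⤳ v w := hgen' _ (by rw [hp, hp]; exact congrArg c (PrimeSpectrum.ext hwP))
  obtain ⟨z, rfl⟩ := hgw.mem_open v.isOpenEmbedding.isOpen_range ⟨w, rfl⟩
  have hzP : z.asIdeal ≤ P :=
    (PrimeSpectrum.le_iff_specializes z ⟨P, hP⟩).mpr (v.isOpenEmbedding.isInducing.specializes_iff.mp hgP)
  have hzw : z.asIdeal ≤ w.asIdeal :=
    (PrimeSpectrum.le_iff_specializes z w).mpr (v.isOpenEmbedding.isInducing.specializes_iff.mp hgw)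
  have hzu : z.asIdeal.comap (algebraMap R A) = P.comap (algebraMap R A) :=
    congrArg PrimeSpectrum.asIdeal (hc ((hp z).symm.trans (hg.trans (hp ⟨P, hP⟩))))
  rw [← hmin _ z.2 hzP hzu]
  exact fun hez => hwe (hzw hez)

/-- A closed subscheme containing an open subscheme meeting all nonempty fibres is everything. -/
theorem isIso_of_open {Q T E W : Scheme.{u}} (p : Q ⟶ T) [Smooth p] (hgen : GenFib p) (j : E ⟶ Q)
    [IsClosedImmersion j] (w : W ⟶ Q) [IsOpenImmersion w] (hmeet : ∀ y : Q, ∃ z : W, p (w z) = p y)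
    (l : W ⟶ E) (hl : l ≫ j = w) : IsIso j := by
  classical
  have key : ∀ x : Q, ∃ V : Q.Opens, x ∈ V ∧ ∃ hV : IsAffineOpen V, ∃ m, m ≫ j = hV.fromSpec := by
    intro x
    obtain ⟨D₀, hD₀, hxD₀, -⟩ := exists_isAffineOpen_mem_and_subset (x := p x) (U := ⊤) trivial
    obtain ⟨V₀, hV₀, hxV₀, hV₀D₀⟩ := exists_isAffineOpen_mem_and_subset (x := x) (U := p ⁻¹ᵁ D₀) hxD₀
    obtain ⟨z, hz⟩ := hmeet x
    obtain ⟨g, hg, hgen'⟩ := hgen x
    have hgV : g ∈ V₀ := (hgen' x rfl).mem_open V₀.2 hxV₀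
    have hgW : g ∈ w.opensRange := (hgen' (w z) hz).mem_open w.opensRange.2 ⟨z, rfl⟩
    obtain ⟨e₀, he₀, hge₀⟩ := hV₀.exists_basicOpen_le (V := w.opensRange) ⟨g, hgW⟩ hgV
    obtain ⟨a, ha, hxa⟩ := hD₀.exists_basicOpen_le
      (V := ⟨p '' (Q.basicOpen e₀ : Set Q), p.isOpenMap _ (Q.basicOpen e₀).2⟩) ⟨p x, ⟨g, hge₀, hg⟩⟩ hxD₀
    let D := T.basicOpen a
    have hDaff : IsAffineOpen D := hD₀.basicOpen a
    let b : Γ(Q, V₀) := p.appLE D₀ V₀ hV₀D₀ a
    let V := Q.basicOpen b
    have hVeq : V = V₀ ⊓ p ⁻¹ᵁ D := Scheme.basicOpen_appLE p V₀ D₀ hV₀D₀ a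
    have hV : IsAffineOpen V := hV₀.basicOpen b
    have hxV : x ∈ V := by rw [hVeq]; exact ⟨hxV₀, hxa⟩
    have hle : V ≤ p ⁻¹ᵁ D := hVeq.le.trans inf_le_right
    have hVV₀ : V ≤ V₀ := Q.basicOpen_le b
    refine ⟨V, hxV, hV, ?_⟩
    let e : Γ(Q, V) := Q.presheaf.map (homOfLE hVV₀).op e₀
    obtain ⟨J, hJ⟩ := factors_closed_iff j hV.fromSpec
    suffices hJ0 : J = ⊥ by
      obtain ⟨m, hm⟩ := (hJ _ (𝟙 _)).mpr (by simp [hJ0])
      exact ⟨m, by rw [hm, Spec.map_id, Category.id_comp]⟩
    rw [eq_bot_iff]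
    intro h hh
    rw [Ideal.mem_bot]
    letI := (p.appLE D V hle).hom.toAlgebra
    haveI : Algebra.Smooth Γ(T, D) Γ(Q, V) := by
      rw [← RingHom.smooth_algebraMap, RingHom.algebraMap_toAlgebra]
      exact p.smooth_appLE hDaff hV hle
    have hzero : algebraMap Γ(Q, V) (Localization.Away e) h = 0 := by
      let ψ : Γ(Q, V) ⟶ CommRingCat.of (Localization.Away e) := CommRingCat.ofHom (algebraMap _ _)
      have hr : Set.range (Spec.map ψ ≫ hV.fromSpec) ⊆ Set.range w := by
        rintro _ ⟨q, rfl⟩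
        refine he₀ (?_ : _ ∈ Q.basicOpen e₀)
        have h1 : Spec.map ψ q ∈ PrimeSpectrum.basicOpen e :=
          (PrimeSpectrum.localization_away_comap_range (Localization.Away e) e).le ⟨q, rfl⟩
        have h2 : (Spec.map ψ ≫ hV.fromSpec) q ∈ Q.basicOpen e := by
          rw [← hV.fromSpec_image_basicOpen, Scheme.Hom.comp_apply]
          exact ⟨_, h1, rfl⟩
        rw [Scheme.basicOpen_res] at h2
        exact h2.2
      exact RingHom.mem_ker.mp ((hJ _ ψ).mp ⟨IsOpenImmersion.lift w _ hr ≫ l,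
        by rw [Category.assoc, hl, IsOpenImmersion.lift_fac]⟩ hh)
    obtain ⟨⟨_, n, rfl⟩, hn⟩ :=
      (IsLocalization.map_eq_zero_iff (Submonoid.powers e) (Localization.Away e) h).mp hzero
    refine eq_zero_of_genFib p hgen (R := Γ(T, D)) hV.fromSpec hDaff.fromSpec
      hDaff.fromSpec.isOpenEmbedding.injective ?_ (e ^ n) h hn fun P => ?_
    · rw [RingHom.algebraMap_toAlgebra, CommRingCat.ofHom_hom, IsAffineOpen.SpecMap_appLE_fromSpec]
    · have hyV : hV.fromSpec P ∈ V := hV.range_fromSpec.le ⟨P, rfl⟩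
      obtain ⟨w₁, hw₁, hw₁p⟩ := ha (hle hyV : p (hV.fromSpec P) ∈ D)
      have hw₁V : w₁ ∈ V := by
        rw [hVeq]
        refine ⟨Q.basicOpen_le e₀ hw₁, ?_⟩
        show p w₁ ∈ D
        rw [hw₁p]
        exact hle hyV
      obtain ⟨w₂, rfl⟩ : w₁ ∈ Set.range hV.fromSpec := hV.range_fromSpec.ge hw₁V
      refine ⟨w₂, fun hmem => ?_, ?_⟩
      · have h1 : hV.fromSpec w₂ ∈ Q.basicOpen e := by rw [Scheme.basicOpen_res]; exact ⟨hw₁V, hw₁⟩
        rw [← hV.fromSpec_image_basicOpen] at h1
        obtain ⟨q, hq, hqe⟩ := h1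
        rw [hV.fromSpec.isOpenEmbedding.injective hqe] at hq
        exact hq (w₂.2.mem_of_pow_mem n hmem)
      · have h2 : ∀ q : PrimeSpectrum Γ(Q, V),
            p (hV.fromSpec q) = hDaff.fromSpec (PrimeSpectrum.comap (algebraMap Γ(T, D) Γ(Q, V)) q) := fun q => by
          rw [← Scheme.Hom.comp_apply, ← IsAffineOpen.SpecMap_appLE_fromSpec p hDaff hV hle,
            Scheme.Hom.comp_apply]
          rfl
        rw [h2, h2] at hw₁p
        exact congrArg PrimeSpectrum.asIdeal (hDaff.fromSpec.isOpenEmbedding.injective hw₁p)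
  choose V hxV hV m hm using key
  refine IsZariskiLocalAtTarget.of_openCover (P := MorphismProperty.isomorphisms Scheme.{u})
    (Scheme.Cover.mkOfCovers Q _ (fun x => (hV x).fromSpec)
      (fun x => ⟨x, (hV x).range_fromSpec.ge (hxV x)⟩) inferInstance : Q.OpenCover) fun x => ?_
  show IsIso (pullback.snd j (hV x).fromSpec)
  haveI : IsSplitEpi (pullback.snd j (hV x).fromSpec) :=
    IsSplitEpi.mk' ⟨pullback.lift (m x) (𝟙 _) (by rw [hm, Category.id_comp]), pullback.lift_snd _ _ _⟩
  exact isIso_of_mono_of_isSplitEpi _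

variable {P X Y : Scheme.{u}}

set_option maxHeartbeats 1000000 in
/-- The universal ideal on a base affine whose section lands in a single affine chart. -/
theorem hasIdeal_of_chart (π : P ⟶ X) [Smooth π] (i : Y ⟶ P) [IsClosedImmersion i]
    (hgen : ∀ {T : Scheme.{u}} (g : T ⟶ X), GenFib (pullback.fst g π))
    {A B : Type u} [CommRing A] [CommRing B] [Algebra A B] [Algebra.Smooth A B]
    (a : Spec (CommRingCat.of A) ⟶ X) (v : Spec (CommRingCat.of B) ⟶ pullback a π) [IsOpenImmersion v]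
    (hv : v ≫ pullback.fst a π = Spec.map (CommRingCat.ofHom (algebraMap A B))) (σ : B →ₐ[A] A) :
    ∃ I : Ideal A, HasIdeal π i a I ∧ (LocallyOfFinitePresentation i → I.FG) := by
  classical
  obtain ⟨J, hJ⟩ := factors_closed_iff i (v ≫ pullback.snd a π)
  let I : Ideal A := ⨆ h : J, germIdeal σ h.1
  have hiff : ∀ (C : Type u) [CommRing C] [Algebra A C],
      Good π i (Spec.map (CommRingCat.ofHom (algebraMap A C)) ≫ a) ↔ I ≤ RingHom.ker (algebraMap A C) := by
    intro C _ _
    let g := Spec.map (CommRingCat.ofHom (algebraMap A C)) ≫ a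
    let p' : pullback g π ⟶ pullback a π :=
      pullback.map g π a π (Spec.map (CommRingCat.ofHom (algebraMap A C))) (𝟙 P) (𝟙 X) (by simp [g]) (by simp)
    let inl : CommRingCat.of C ⟶ CommRingCat.of (C ⊗[A] B) :=
      CommRingCat.ofHom Algebra.TensorProduct.includeLeftRingHom
    let inr : CommRingCat.of B ⟶ CommRingCat.of (C ⊗[A] B) :=
      CommRingCat.ofHom (Algebra.TensorProduct.includeRight (R := A) (A := C) (B := B)).toRingHom
    have hsq : IsPullback (Spec.map inl) (Spec.map inr) (Spec.map (CommRingCat.ofHom (algebraMap A C)))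
        (Spec.map (CommRingCat.ofHom (algebraMap A B))) :=
      isPullback_SpecMap_of_isPushout _ _ _ _ (CommRingCat.isPushout_tensorProduct A C B)
    let q : Spec (CommRingCat.of (C ⊗[A] B)) ⟶ pullback g π :=
      pullback.lift (Spec.map inl) (Spec.map inr ≫ v ≫ pullback.snd a π) (by
        simp only [g, Category.assoc]
        rw [← pullback.condition, hsq.w_assoc, ← hv, Category.assoc])
    have hq : IsPullback q (Spec.map inr) p' v := by
      have hr : IsPullback (pullback.fst g π) p' (Spec.map (CommRingCat.ofHom (algebraMap A C)))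
          (pullback.fst a π) := by
        refine IsPullback.of_bot ?_ ?_ (IsPullback.of_hasPullback a π)
        · simpa [p', g, pullback.map] using IsPullback.of_hasPullback g π
        · simp [p', pullback.map]
      refine IsPullback.of_right ?_ ?_ hr
      · rw [hv, pullback.lift_fst]; exact hsq
      · apply pullback.hom_ext
        · simp [q, p', pullback.map, hv, hsq.w]
        · simp [q, p', pullback.map]
    haveI : IsOpenImmersion q := MorphismProperty.of_isPullback (P := @IsOpenImmersion) hq.flip inferInstance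
    have hqfst : q ≫ pullback.fst g π = Spec.map inl := pullback.lift_fst _ _ _
    constructor
    · rintro ⟨l, hl⟩
      have hle : J ≤ RingHom.ker inr.hom := (hJ _ inr).mp ⟨q ≫ l, by
        rw [Category.assoc, hl, pullback.lift_snd]⟩
      refine iSup_le fun h => ?_
      have h0 := map_germIdeal_eq_bot σ C h.1 1 (map_one _) (by rw [one_mul]; exact hle h.2)
      rwa [Ideal.map_eq_bot_iff_le_ker] at h0
    · intro hI
      have hker : J ≤ RingHom.ker inr.hom := by
        intro h hh
        have h1 : (germIdeal σ h).map (algebraMap A C) = ⊥ :=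
          (Ideal.map_eq_bot_iff_le_ker _).mpr ((le_iSup (fun h : J => germIdeal σ h.1) ⟨h, hh⟩).trans hI)
        obtain ⟨e, he, he0⟩ := exists_annihilator_bc σ h C h1
        show (1 : C) ⊗ₜ[A] h = 0
        refine eq_zero_of_genFib (pullback.fst g π) (hgen g) (R := C) q (𝟙 _) (fun a b h => h) ?_ e _ he0
          fun Q => ?_
        · rw [hqfst, Category.comp_id]
          rfl
        · let t := PrimeSpectrum.comap (algebraMap C (C ⊗[A] B)) Q
          refine ⟨PrimeSpectrum.comap (bcSec σ C).toRingHom t, fun hmem => ?_, ?_⟩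
          · have h2 : bcSec σ C e ∈ t.asIdeal := hmem
            rw [he] at h2
            exact t.2.ne_top ((Ideal.eq_top_iff_one _).mpr h2)
          · show (t.asIdeal.comap (bcSec σ C).toRingHom).comap (algebraMap C (C ⊗[A] B)) = t.asIdeal
            ext c
            simp [Ideal.mem_comap]
      obtain ⟨l, hl⟩ := (hJ _ inr).mpr hker
      rw [TransLib.good_iff_isIso]
      refine isIso_of_open (pullback.fst g π) (hgen g) _ q (fun y => ?_)
        (pullback.lift l q (by rw [hl, pullback.lift_snd])) (pullback.lift_snd _ _ _)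
      let t : PrimeSpectrum C := pullback.fst g π y
      refine ⟨PrimeSpectrum.comap (bcSec σ C).toRingHom t, ?_⟩
      rw [← Scheme.Hom.comp_apply, hqfst]
      show PrimeSpectrum.comap inl.hom (PrimeSpectrum.comap (bcSec σ C).toRingHom t) = t
      rw [← PrimeSpectrum.comap_comp_apply]
      have : (bcSec σ C).toRingHom.comp inl.hom = RingHom.id C := RingHom.ext fun c => by simp [inl]
      rw [this]
      rfl
  refine ⟨I, fun C _ φ => ?_, fun hi => ?_⟩
  · letI := φ.toAlgebra
    exact hiff C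
  · obtain ⟨s, hs⟩ := fg_of_factors i (v ≫ pullback.snd a π) J hJ
    have hmem : ∀ h : ↥s, h.1 ∈ J := fun h => hs ▸ Submodule.subset_span h.2
    let I₀ : Ideal A := ⨆ h : ↥s, germIdeal σ h.1
    have hI₀ : I₀.FG := Submodule.fg_iSup _ fun h => fg_germIdeal σ _
    suffices h0 : I = I₀ by rw [h0]; exact hI₀
    refine le_antisymm ?_ (iSup_le fun h => le_iSup (fun h : J => germIdeal σ h.1) ⟨h.1, hmem h⟩)
    refine iSup_le fun h => ?_
    have hh : (h : B) ∈ Submodule.span B (s : Set B) := hs.ge h.2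
    have hle : ∀ x ∈ Submodule.span B (s : Set B), germIdeal σ x ≤ I₀ := fun x hx => germIdeal_le_of_mem_span σ s x hx
    exact hle _ hh

end Groth.Agent.SecGerm
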