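import Groth.Agent.SecGerm.SubgroupOpen
import Groth.Agent.GrpSchLib.WeilClosed
import Mathlib

/-!
# The locus where a subgroup is everything, on a chart around the identity section
-/

universe u

open CategoryTheory CategoryTheory.Limits MonoidalCategory CartesianMonoidalCategory AlgebraicGeometry TensorProduct
open scoped MonObj

set_option backward.isDefEq.respectTransparency false
set_option linter.style.haveILetI false

namespace Groth.Agent.SecGerm

/-- An étale closed subscheme is cut out by an idempotent. -/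
theorem exists_annihilator_of_etale {A B : Type u} [CommRing A] [CommRing B] [Algebra A B] [Algebra.Etale A B]
    (hsurj : Function.Surjective (algebraMap A B)) (hfg : (RingHom.ker (algebraMap A B)).FG) :
    ∃ e : A, (∀ x ∈ RingHom.ker (algebraMap A B), e * x = 0) ∧ e - 1 ∈ RingHom.ker (algebraMap A B) := by
  let K := RingHom.ker (algebraMap A B)
  have hK : IsIdempotentElem K := by
    refine le_antisymm Ideal.mul_le_left fun x hx => ?_
    let g : A ⧸ K * K →ₐ[A] B := Ideal.Quotient.liftₐ (K * K) (Algebra.ofId A B) fun a ha => Ideal.mul_le_left ha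
    have hg : Function.Surjective g := fun b => by
      obtain ⟨a, rfl⟩ := hsurj b
      exact ⟨Ideal.Quotient.mk _ a, rfl⟩
    have hker : IsNilpotent (RingHom.ker (g : A ⧸ K * K →+* B)) := by
      refine ⟨2, ?_⟩
      rw [Ideal.zero_eq_bot, eq_bot_iff]
      have hle : RingHom.ker (g : A ⧸ K * K →+* B) ≤ K.map (Ideal.Quotient.mk (K * K)) := fun y hy => by
        obtain ⟨a, rfl⟩ := Ideal.Quotient.mk_surjective y
        exact Ideal.mem_map_of_mem _ hy
      refine (Ideal.pow_right_mono hle 2).trans ?_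
      rw [← Ideal.map_pow, pow_two, Ideal.map_quotient_self]
    let s : B →ₐ[A] A ⧸ K * K := Algebra.FormallySmooth.liftOfSurjective (AlgHom.id A B) g hg hker
    have h1 : Ideal.Quotient.mk (K * K) x = 0 := by
      rw [← Ideal.Quotient.algebraMap_eq, ← s.commutes x, RingHom.mem_ker.mp hx, map_zero]
    exact Ideal.Quotient.eq_zero_iff_mem.mp h1
  obtain ⟨ε, hε, hspan⟩ := (K.isIdempotentElem_iff_of_fg hfg).mp hK
  refine ⟨1 - ε, fun x hx => ?_, ?_⟩
  · obtain ⟨c, rfl⟩ := Ideal.mem_span_singleton'.mp (hspan.le hx)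
    rw [sub_mul, one_mul, mul_left_comm, hε.eq, sub_self]
  · show (1 - ε) - 1 ∈ K
    rw [sub_sub_cancel_left, neg_mem_iff]
    exact hspan.ge (Ideal.mem_span_singleton_self ε)

/-- The locus over which a finitely generated ideal vanishes near a section. -/
theorem exists_nearIdeal {R A : Type u} [CommRing R] [CommRing A] [Algebra R A] [Algebra.Smooth R A]
    (σ : A →ₐ[R] R) (K : Ideal A) (hK : K.FG) :
    ∃ I : Ideal R, I.FG ∧ ∀ (C : Type u) [CommRing C] [Algebra R C], I ≤ RingHom.ker (algebraMap R C) ↔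
      ∃ e : C ⊗[R] A, bcSec σ C e = 1 ∧ ∀ x ∈ K, e * (1 ⊗ₜ x) = 0 := by
  classical
  obtain ⟨s, hs⟩ := hK
  refine ⟨⨆ x : ↥s, germIdeal σ x.1, Submodule.fg_iSup _ fun x => fg_germIdeal σ _, fun C _ _ => ⟨fun h => ?_, ?_⟩⟩
  · have h1 : ∀ x : ↥s, (germIdeal σ x.1).map (algebraMap R C) = ⊥ := fun x =>
      (Ideal.map_eq_bot_iff_le_ker _).mpr ((le_iSup (fun x : ↥s => germIdeal σ x.1) x).trans h)
    choose e he he0 using fun x : ↥s => exists_annihilator_bc σ (x : A) C (h1 x)
    refine ⟨∏ x, e x, map_prod_eq_one (bcSec σ C).toRingHom e he, fun x hx => ?_⟩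
    refine mul_one_tmul_eq_zero_of_span (∏ x, e x) (s : Set A) (fun y hy => ?_) x (hs.ge hx)
    rw [← Finset.prod_erase_mul _ e (Finset.mem_univ (⟨y, hy⟩ : ↥s)), mul_assoc, he0 ⟨y, hy⟩, mul_zero]
  · rintro ⟨e, he, he0⟩
    refine iSup_le fun x => ?_
    exact (Ideal.map_eq_bot_iff_le_ker _).mp
      (map_germIdeal_eq_bot σ C x.1 e he (he0 x.1 (hs.le (Submodule.subset_span x.2))))

variable {S : Scheme.{u}} {X Y : Over S}

open GrpSchLib in
set_option maxHeartbeats 1000000 in
/-- The universal ideal of `Y = X` on a chart containing the identity section. -/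
theorem hasIdeal_of_groupChart [GrpObj X] [GrpObj Y] [Smooth X.hom] [QuasiSeparated X.hom]
    [GeometricallyConnected X.hom] (i : Y ⟶ X) [IsMonHom i] [Mono i]
    {R A B : Type u} [CommRing R] [CommRing A] [CommRing B] [Algebra R A] [Algebra R B]
    [Algebra.Smooth R A] [Algebra.FinitePresentation R B] (φ : A →ₐ[R] B) (hφ : Function.Surjective φ)
    (σ : B →ₐ[R] R) (a : Spec (CommRingCat.of R) ⟶ S)
    (q : Spec (CommRingCat.of A) ⟶ pullback a X.hom) [Etale q]
    (hq : q ≫ pullback.fst a X.hom = Spec.map (CommRingCat.ofHom (algebraMap R A)))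
    (o : Spec (CommRingCat.of B) ⟶ pullback a Y.hom) [IsOpenImmersion o]
    (ho : o ≫ pullback.fst a Y.hom = Spec.map (CommRingCat.ofHom (algebraMap R B)))
    (hoq : Spec.map (CommRingCat.ofHom φ.toRingHom) ≫ q ≫ pullback.snd a X.hom = o ≫ pullback.snd a Y.hom ≫ i.left) :
    ∃ I : Ideal R, I.FG ∧ HasIdeal X.hom i.left a I := by
  let K : Ideal A := RingHom.ker φ.toRingHom
  have hK : K.FG := Algebra.FinitePresentation.ker_fG_of_surjective φ hφ
  obtain ⟨I, hIfg, hI⟩ := exists_nearIdeal (σ.comp φ) K hK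
  refine ⟨I, hIfg, fun C _ χ => ?_⟩
  letI := χ.toAlgebra
  show Good X.hom i.left (Spec.map (CommRingCat.ofHom (algebraMap R C)) ≫ a) ↔ I ≤ RingHom.ker (algebraMap R C)
  rw [hI C]
  let g := Spec.map (CommRingCat.ofHom (algebraMap R C)) ≫ a
  let iC : Red.bc g Y ⟶ Red.bc g X := (Over.pullback g).map i
  haveI : (Over.pullback g).PreservesMonomorphisms :=
    Functor.preservesMonomorphisms_of_adjunction (Over.mapPullbackAdj g)
  have hgood : Good X.hom i.left g ↔ IsIso iC := by
    constructor
    · rintro ⟨l, hl⟩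
      have hlY : ((pullbackSymmetry X.hom g).hom ≫ l) ≫ Y.hom = pullback.snd X.hom g ≫ g := by
        rw [← Over.w i, Category.assoc, ← Category.assoc l, hl, ← pullback.condition, ← Category.assoc,
          pullbackSymmetry_hom_comp_fst]
      let s : Red.bc g X ⟶ Red.bc g Y :=
        Over.homMk (pullback.lift ((pullbackSymmetry X.hom g).hom ≫ l) (pullback.snd X.hom g) hlY)
          (pullback.lift_snd _ _ _)
      have hs : s ≫ iC = 𝟙 _ := by
        apply Over.OverMorphism.ext
        show pullback.lift _ _ hlY ≫ iC.left = 𝟙 _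
        apply pullback.hom_ext
        · rw [Category.assoc, show iC.left ≫ pullback.fst X.hom g = pullback.fst Y.hom g ≫ i.left from
            pullback.lift_fst _ _ _, ← Category.assoc, pullback.lift_fst, Category.id_comp, Category.assoc, hl,
            pullbackSymmetry_hom_comp_snd]
        · rw [Category.assoc, show iC.left ≫ pullback.snd X.hom g = pullback.snd Y.hom g from Over.w iC,
            pullback.lift_snd, Category.id_comp]
      haveI : IsSplitEpi iC := IsSplitEpi.mk' ⟨s, hs⟩
      exact isIso_of_mono_of_isSplitEpi iC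
    · intro h
      refine ⟨(pullbackSymmetry g X.hom).hom ≫ (inv iC).left ≫ pullback.fst Y.hom g, ?_⟩
      rw [Category.assoc, Category.assoc,
        show pullback.fst Y.hom g ≫ i.left = iC.left ≫ pullback.fst X.hom g from (pullback.lift_fst _ _ _).symm,
        ← Category.assoc (inv iC).left, ← Over.comp_left, IsIso.inv_hom_id]
      show (pullbackSymmetry g X.hom).hom ≫ 𝟙 _ ≫ pullback.fst X.hom g = _
      rw [Category.id_comp, pullbackSymmetry_hom_comp_fst]
  rw [hgood]
  -- the base changed charts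
  let φC : C ⊗[R] A →ₐ[C] C ⊗[R] B := Algebra.TensorProduct.map (AlgHom.id C C) φ
  have hφC : Function.Surjective φC := Algebra.TensorProduct.map_surjective (AlgHom.id C C) φ
    (fun c => ⟨c, rfl⟩) hφ
  have hker : RingHom.ker φC.toRingHom =
      K.map (Algebra.TensorProduct.includeRight (R := R) (A := C) (B := A)).toRingHom :=
    Algebra.TensorProduct.lTensor_ker φ hφ
  let inr : ∀ (D : Type u) [CommRing D] [Algebra R D], CommRingCat.of D ⟶ CommRingCat.of (C ⊗[R] D) :=
    fun D _ _ => CommRingCat.ofHom (Algebra.TensorProduct.includeRight (R := R) (A := C) (B := D)).toRingHom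
  let inl : ∀ (D : Type u) [CommRing D] [Algebra R D], CommRingCat.of C ⟶ CommRingCat.of (C ⊗[R] D) :=
    fun D _ _ => CommRingCat.ofHom Algebra.TensorProduct.includeLeftRingHom
  have hsq : ∀ (D : Type u) [CommRing D] [Algebra R D], IsPullback (Spec.map (inl D)) (Spec.map (inr D))
      (Spec.map (CommRingCat.ofHom (algebraMap R C))) (Spec.map (CommRingCat.ofHom (algebraMap R D))) :=
    fun D _ _ => isPullback_SpecMap_of_isPushout _ _ _ _ (CommRingCat.isPushout_tensorProduct R C D)
  have base : ∀ (Z : Over S) (D : Type u) [CommRing D] [Algebra R D] (v : Spec (CommRingCat.of D) ⟶ pullback a Z.hom),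
      v ≫ pullback.fst a Z.hom = Spec.map (CommRingCat.ofHom (algebraMap R D)) →
      ∃ vC : Spec (CommRingCat.of (C ⊗[R] D)) ⟶ (Red.bc g Z).left, ∃ p : (Red.bc g Z).left ⟶ pullback a Z.hom,
        IsPullback vC (Spec.map (inr D)) p v ∧ vC ≫ pullback.fst Z.hom g = Spec.map (inr D) ≫ v ≫ pullback.snd a Z.hom ∧
        vC ≫ pullback.snd Z.hom g = Spec.map (inl D) := by
    intro Z D _ _ v hv
    let p : (Red.bc g Z).left ⟶ pullback a Z.hom :=
      pullback.lift (pullback.snd Z.hom g ≫ Spec.map (CommRingCat.ofHom (algebraMap R C))) (pullback.fst Z.hom g)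
        (by rw [Category.assoc]; exact pullback.condition.symm)
    have hw : (Spec.map (inr D) ≫ v ≫ pullback.snd a Z.hom) ≫ Z.hom = Spec.map (inl D) ≫ g := by
      simp only [g, Category.assoc]
      rw [← pullback.condition, (hsq D).w_assoc, ← hv, Category.assoc]
    let vC : Spec (CommRingCat.of (C ⊗[R] D)) ⟶ (Red.bc g Z).left := pullback.lift _ _ hw
    refine ⟨vC, p, ?_, pullback.lift_fst _ _ _, pullback.lift_snd _ _ _⟩
    have hr : IsPullback (pullback.snd Z.hom g) p (Spec.map (CommRingCat.ofHom (algebraMap R C)))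
        (pullback.fst a Z.hom) := by
      refine IsPullback.of_bot ?_ (pullback.lift_fst _ _ _).symm (IsPullback.of_hasPullback a Z.hom)
      rw [pullback.lift_snd]
      exact (IsPullback.of_hasPullback Z.hom g).flip
    refine IsPullback.of_right ?_ ?_ hr
    · rw [hv, pullback.lift_snd]; exact hsq D
    · apply pullback.hom_ext
      · rw [Category.assoc, pullback.lift_fst, ← Category.assoc, pullback.lift_snd, Category.assoc, hv, (hsq D).w]
      · rw [Category.assoc, pullback.lift_snd, pullback.lift_fst, Category.assoc]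
  obtain ⟨qC, pX, hqC, hqC1, hqC2⟩ := base X A q hq
  obtain ⟨oC, pY, hoC, hoC1, hoC2⟩ := base Y B o ho
  haveI : Etale qC := MorphismProperty.of_isPullback (P := @Etale) hqC.flip ‹Etale q›
  haveI : IsOpenImmersion oC := MorphismProperty.of_isPullback (P := @IsOpenImmersion) hoC.flip ‹IsOpenImmersion o›
  let kC := Spec.map (CommRingCat.ofHom φC.toRingHom)
  have hinr : inr A ≫ CommRingCat.ofHom φC.toRingHom = CommRingCat.ofHom φ.toRingHom ≫ inr B := by
    ext x
    simp [inr, φC]
  have hinl : inl A ≫ CommRingCat.ofHom φC.toRingHom = inl B := by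
    ext x
    simp [inl, φC]
  have hk : kC ≫ qC = oC ≫ iC.left := by
    apply pullback.hom_ext
    · rw [Category.assoc, hqC1, ← Category.assoc, ← Spec.map_comp, hinr, Spec.map_comp, Category.assoc, hoq,
        Category.assoc, show iC.left ≫ pullback.fst X.hom g = pullback.fst Y.hom g ≫ i.left from pullback.lift_fst _ _ _,
        ← Category.assoc oC, hoC1, Category.assoc, Category.assoc]
    · rw [Category.assoc, hqC2, ← Spec.map_comp, hinl, Category.assoc,
        show iC.left ≫ pullback.snd X.hom g = pullback.snd Y.hom g from Over.w iC, hoC2]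
  have hσker : ∀ z ∈ RingHom.ker φC.toRingHom, bcSec (σ.comp φ) C z = 0 := fun z hz => by
    have : bcSec (σ.comp φ) C = (bcSec σ C).comp φC := by
      refine Algebra.TensorProduct.ext (by ext) (AlgHom.ext fun x => ?_)
      simp [φC]
    rw [this, AlgHom.comp_apply, show φC z = 0 from RingHom.mem_ker.mp hz, map_zero]
  constructor
  · intro hiso
    haveI : IsIso iC.left := inferInstanceAs (IsIso ((Over.forget _).map iC))
    haveI : Etale (kC ≫ qC) := by rw [hk]; infer_instance
    haveI : Etale kC := Etale.of_comp kC qC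
    letI := φC.toRingHom.toAlgebra
    haveI : Algebra.Etale (C ⊗[R] A) (C ⊗[R] B) := by
      have h : φC.toRingHom.Etale := (HasRingHomProperty.Spec_iff (P := @Etale)).mp ‹Etale kC›
      exact RingHom.etale_algebraMap.mp h
    obtain ⟨e, he0, he1⟩ := exists_annihilator_of_etale (A := C ⊗[R] A) (B := C ⊗[R] B) hφC
      (by rw [RingHom.algebraMap_toAlgebra, hker]; exact Ideal.FG.map hK _)
    rw [RingHom.algebraMap_toAlgebra] at he0 he1
    refine ⟨e, ?_, fun x hx => he0 _ (hker.ge (Ideal.mem_map_of_mem _ hx))⟩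
    have := hσker _ he1
    rwa [map_sub, map_one, sub_eq_zero] at this
  · rintro ⟨e, he, he0⟩
    let L := Localization.Away e
    have hkill : RingHom.ker φC.toRingHom ≤ RingHom.ker (algebraMap (C ⊗[R] A) L) := by
      rw [hker, Ideal.map_le_iff_le_comap]
      intro x hx
      rw [Ideal.mem_comap, RingHom.mem_ker, IsLocalization.map_eq_zero_iff (Submonoid.powers e) L]
      exact ⟨⟨e, Submonoid.mem_powers e⟩, he0 x hx⟩
    let ψ : C ⊗[R] B →+* L :=
      φC.toRingHom.liftOfSurjective hφC ⟨algebraMap (C ⊗[R] A) L, hkill⟩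
    have hψ : ψ.comp φC.toRingHom = algebraMap (C ⊗[R] A) L :=
      φC.toRingHom.liftOfRightInverse_comp _ (Function.rightInverse_surjInv hφC) _
    let j : Spec (CommRingCat.of L) ⟶ Spec (CommRingCat.of (C ⊗[R] A)) :=
      Spec.map (CommRingCat.ofHom (algebraMap (C ⊗[R] A) L))
    haveI : IsOpenImmersion j := IsOpenImmersion.of_isLocalization e
    let W : Over (Spec (CommRingCat.of C)) := Over.mk (j ≫ Spec.map (inl A))
    let w : W ⟶ Red.bc g X := Over.homMk (j ≫ qC) (by
      show (j ≫ qC) ≫ pullback.snd X.hom g = _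
      rw [Category.assoc, hqC2]
      rfl)
    have hjk : j = Spec.map (CommRingCat.ofHom ψ) ≫ kC := by
      rw [← Spec.map_comp, ← CommRingCat.ofHom_comp, hψ]
    let l : W ⟶ Red.bc g Y := Over.homMk (Spec.map (CommRingCat.ofHom ψ) ≫ oC) (by
      show (Spec.map (CommRingCat.ofHom ψ) ≫ oC) ≫ pullback.snd Y.hom g = j ≫ Spec.map (inl A)
      rw [Category.assoc, hoC2, hjk, Category.assoc, ← Spec.map_comp (inl A), hinl])
    haveI : Etale w.left := inferInstanceAs (Etale (j ≫ qC))
    haveI : IsAffine W.left := inferInstanceAs (IsAffine (Spec _))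
    haveI : Smooth (Red.bc g X).hom := MorphismProperty.pullback_snd (P := @Smooth) _ _ ‹Smooth X.hom›
    haveI : QuasiSeparated (Red.bc g X).hom :=
      MorphismProperty.pullback_snd (P := @QuasiSeparated) _ _ ‹QuasiSeparated X.hom›
    haveI : GeometricallyConnected (Red.bc g X).hom :=
      MorphismProperty.pullback_snd (P := @GeometricallyConnected) _ _ ‹GeometricallyConnected X.hom›
    refine isIso_of_etale_nhd iC w l (Over.OverMorphism.ext ?_) fun t => ?_
    · show (Spec.map (CommRingCat.ofHom ψ) ≫ oC) ≫ iC.left = j ≫ qC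
      rw [Category.assoc, ← hk, hjk, Category.assoc]
    · let P : PrimeSpectrum (C ⊗[R] A) := PrimeSpectrum.comap (bcSec (σ.comp φ) C).toRingHom t
      have hP : e ∉ P.asIdeal := fun h => by
        have h2 : bcSec (σ.comp φ) C e ∈ (t : PrimeSpectrum C).asIdeal := h
        rw [he] at h2
        exact (t : PrimeSpectrum C).2.ne_top ((Ideal.eq_top_iff_one _).mpr h2)
      obtain ⟨z, hz⟩ : P ∈ Set.range (PrimeSpectrum.comap (algebraMap (C ⊗[R] A) L)) := by
        rw [PrimeSpectrum.localization_away_comap_range L e]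
        exact hP
      refine ⟨z, ?_⟩
      show PrimeSpectrum.comap (inl A).hom (PrimeSpectrum.comap (algebraMap (C ⊗[R] A) L) z) = t
      rw [hz]
      show PrimeSpectrum.comap (inl A).hom (PrimeSpectrum.comap (bcSec (σ.comp φ) C).toRingHom t) = t
      rw [← PrimeSpectrum.comap_comp_apply,
        show (bcSec (σ.comp φ) C).toRingHom.comp (inl A).hom = RingHom.id C from RingHom.ext fun c => by simp [inl]]
      rfl

end Groth.Agent.SecGerm
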