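import Groth.Agent.SecGerm.Irred
import Groth.Agent.GrpSchLib.Shear
import Mathlib

/-!
# A subgroup containing an étale neighbourhood meeting every fibre is the whole group
-/

universe u

open CategoryTheory CategoryTheory.Limits MonoidalCategory CartesianMonoidalCategory AlgebraicGeometry
open scoped MonObj

set_option backward.isDefEq.respectTransparency false
set_option linter.style.haveILetI false

namespace Groth.Agent.SecGerm

variable {T : Scheme.{u}}

theorem etale_tensorHom {W G : Over T} (w : W ⟶ G) [Etale w.left] : Etale (w ⊗ₘ w).left := by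
  rw [MonoidalCategory.tensorHom_def, Over.comp_left]
  haveI : Etale (w ▷ W).left := by
    refine MorphismProperty.of_isPullback (P := @Etale)
      ((IsPullback.of_bot (h₁₁ := (fst W W).left) (v₁₁ := (w ▷ W).left) (v₁₂ := w.left) ?_ ?_
        (IsPullback.of_hasPullback G.hom W.hom))) ‹Etale w.left›
    · show IsPullback (pullback.fst W.hom W.hom) ((w ▷ W).left ≫ pullback.snd G.hom W.hom) (w.left ≫ G.hom) W.hom
      rw [show (w ▷ W).left ≫ pullback.snd G.hom W.hom = pullback.snd W.hom W.hom from
        congrArg CommaMorphism.left (whiskerRight_snd w W), Over.w w]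
      exact IsPullback.of_hasPullback _ _
    · exact congrArg CommaMorphism.left (whiskerRight_fst w W).symm
  haveI : Etale (G ◁ w).left := by
    refine MorphismProperty.of_isPullback (P := @Etale)
      ((IsPullback.of_bot (h₁₁ := (snd G W).left) (v₁₁ := (G ◁ w).left) (v₁₂ := w.left) ?_ ?_
        (IsPullback.of_hasPullback G.hom G.hom).flip)) ‹Etale w.left›
    · show IsPullback (pullback.snd G.hom W.hom) ((G ◁ w).left ≫ pullback.fst G.hom G.hom) (w.left ≫ G.hom) G.hom
      rw [show (G ◁ w).left ≫ pullback.fst G.hom G.hom = pullback.fst G.hom W.hom from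
        congrArg CommaMorphism.left (whiskerLeft_fst G w), Over.w w]
      exact (IsPullback.of_hasPullback _ _).flip
    · exact congrArg CommaMorphism.left (whiskerLeft_snd G w).symm
  infer_instance

theorem flat_mul {G : Over T} [GrpObj G] [Flat G.hom] : Flat μ[G].left := by
  have h : Flat ((𝟙 G) ▷ G ≫ μ[G]).left := GrpSchLib.flat_whiskerRight_mul (𝟙 G)
  rwa [← GrpSchLib.mul_eq_id_whiskerRight] at h

/-- Products of two points of an open subset meeting every fibre exhaust a group with connected fibres. -/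
theorem exists_mul_eq {G : Over T} [GrpObj G] [Smooth G.hom] [GeometricallyConnected G.hom] (O : Set G.left)
    (hO : IsOpen O) (hmeet : ∀ t : T, ∃ o ∈ O, G.hom o = t) (y : G.left) :
    ∃ c : (G ⊗ G).left, (fst G G).left c ∈ O ∧ (snd G G).left c ∈ O ∧ μ[G].left c = y := by
  let t := G.hom y
  let L := G.left.residueField y
  let T' : Over T := Over.mk (G.left.fromSpecResidueField y ≫ G.hom)
  let y' : T' ⟶ G := Over.homMk (G.left.fromSpecResidueField y) rfl
  let pr : G ⊗ T' ⟶ G := fst G T'
  let θ : G ⊗ T' ⟶ G ⊗ T' := lift ((fst G T')⁻¹ * (snd G T' ≫ y')) (snd G T')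
  let θ' : G ⊗ T' ⟶ G ⊗ T' := lift ((snd G T' ≫ y') * (fst G T')⁻¹) (snd G T')
  have hθ : θ' ≫ θ = 𝟙 _ := by
    apply CartesianMonoidalCategory.hom_ext
    · simp only [θ, θ', Category.assoc, lift_fst, MonObj.comp_mul, GrpObj.comp_inv, lift_snd_assoc, Category.id_comp]
      group
    · simp [θ, θ']
  haveI : Subsingleton ↥T'.left := inferInstanceAs (Subsingleton (PrimeSpectrum L))
  haveI : Smooth (snd G T').left := MorphismProperty.pullback_snd (P := @Smooth) G.hom T'.hom ‹_›
  haveI : GeometricallyConnected (snd G T').left :=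
    MorphismProperty.pullback_snd (P := @GeometricallyConnected) G.hom T'.hom ‹_›
  obtain ⟨o, hoO, hot⟩ := hmeet t
  have hT' : T'.hom (IsLocalRing.closedPoint L) = t := by
    show (G.left.fromSpecResidueField y ≫ G.hom) _ = _
    rw [Scheme.Hom.comp_apply, Scheme.fromSpecResidueField_apply]
  obtain ⟨z₀, hz₀, -⟩ := Scheme.Pullback.exists_preimage_pullback (f := G.hom) (g := T'.hom) o
    (IsLocalRing.closedPoint L) (hot.trans hT'.symm)
  obtain ⟨g₀, -, hg₀⟩ := genFib_of_geometricallyConnected (snd G T').left z₀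
  have h1 : pr.left g₀ ∈ O :=
    ((hg₀ z₀ rfl).map pr.left.continuous).mem_open hO (by
      show (fst G T').left z₀ ∈ O
      rw [show (fst G T').left z₀ = o from hz₀]
      exact hoO)
  have h2 : (θ ≫ pr).left g₀ ∈ O := by
    refine ((hg₀ (θ'.left z₀) (Subsingleton.elim _ _)).map (θ ≫ pr).left.continuous).mem_open hO ?_
    rw [← Scheme.Hom.comp_apply, ← Over.comp_left, ← Category.assoc, hθ, Category.id_comp]
    show (fst G T').left z₀ ∈ O
    rw [show (fst G T').left z₀ = o from hz₀]
    exact hoO
  refine ⟨(lift pr (θ ≫ pr)).left g₀, ?_, ?_, ?_⟩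
  · rw [← Scheme.Hom.comp_apply, ← Over.comp_left, lift_fst]; exact h1
  · rw [← Scheme.Hom.comp_apply, ← Over.comp_left, lift_snd]; exact h2
  · have he : lift pr (θ ≫ pr) ≫ μ[G] = snd G T' ≫ y' := by
      rw [← Hom.mul_def]
      simp only [θ, pr, lift_fst]
      group
    rw [← Scheme.Hom.comp_apply, ← Over.comp_left, he, Over.comp_left, Scheme.Hom.comp_apply]
    exact Scheme.fromSpecResidueField_apply _ _

/-- A subgroup containing an étale neighbourhood of an affine scheme meeting every fibre is everything. -/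
theorem isIso_of_etale_nhd [IsAffine T] {G H W : Over T} [GrpObj G] [GrpObj H] [Smooth G.hom] [QuasiSeparated G.hom]
    [GeometricallyConnected G.hom] (i : H ⟶ G) [IsMonHom i] [Mono i] [IsAffine W.left] (w : W ⟶ G) [Etale w.left]
    (l : W ⟶ H) (hl : l ≫ i = w) (hmeet : ∀ t : T, ∃ z : W.left, W.hom z = t) : IsIso i := by
  let ψ : W ⊗ W ⟶ G := (w ⊗ₘ w) ≫ μ[G]
  let l' : W ⊗ W ⟶ H := (l ⊗ₘ l) ≫ μ[H]
  have hl' : l' ≫ i = ψ := by
    simp only [l', ψ, Category.assoc, IsMonHom.mul_hom i]
    rw [tensorHom_comp_tensorHom_assoc, hl]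
  haveI : Etale (w ⊗ₘ w).left := etale_tensorHom w
  haveI : Flat μ[G].left := flat_mul
  haveI : Flat ψ.left := by rw [Over.comp_left]; infer_instance
  haveI : Surjective ψ.left := ⟨fun y => by
    obtain ⟨c, hc1, hc2, hc⟩ := exists_mul_eq (Set.range w.left) w.left.isOpenMap.isOpen_range
      (fun t => by
        obtain ⟨z, hz⟩ := hmeet t
        exact ⟨w.left z, ⟨z, rfl⟩, by rw [← Scheme.Hom.comp_apply, Over.w w]; exact hz⟩) y
    have hr : c ∈ Set.range (pullback.map W.hom W.hom G.hom G.hom w.left w.left (𝟙 T)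
        (by simp) (by simp)) := by
      rw [Scheme.Pullback.range_map]; exact ⟨hc1, hc2⟩
    obtain ⟨d, hd⟩ := hr
    refine ⟨d, ?_⟩
    show ((w ⊗ₘ w) ≫ μ[G]).left d = y
    rw [Over.comp_left, Scheme.Hom.comp_apply]
    have he : (w ⊗ₘ w).left =
        pullback.map W.hom W.hom G.hom G.hom w.left w.left (𝟙 T) (by simp) (by simp) := by
      apply pullback.hom_ext
      · rw [pullback.lift_fst]
        exact congrArg CommaMorphism.left (tensorHom_fst w w)
      · rw [pullback.lift_snd]
        exact congrArg CommaMorphism.left (tensorHom_snd w w)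
    rw [he]
    exact (congrArg μ[G].left hd).trans hc⟩
  haveI : IsAffine (W ⊗ W).left := inferInstanceAs (IsAffine (pullback W.hom W.hom))
  haveI : QuasiCompact ψ.left := by
    haveI : QuasiCompact (W ⊗ W).hom := inferInstance
    haveI : QuasiCompact (ψ.left ≫ G.hom) := by rw [Over.w ψ]; infer_instance
    exact QuasiCompact.of_comp ψ.left G.hom
  haveI : Mono i.left := inferInstanceAs (Mono ((Over.forget T).map i))
  haveI : IsSplitEpi (pullback.fst ψ.left i.left) :=
    IsSplitEpi.mk' ⟨pullback.lift (𝟙 _) l'.left (by rw [Category.id_comp, ← Over.comp_left, hl']),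
      pullback.lift_fst _ _ _⟩
  haveI : IsIso (pullback.fst ψ.left i.left) := isIso_of_mono_of_isSplitEpi _
  haveI : IsIso i.left := MorphismProperty.of_pullback_fst_of_descendsAlong
    (P := MorphismProperty.isomorphisms Scheme.{u}) (Q := @Surjective ⊓ @Flat ⊓ @QuasiCompact) (f := ψ.left)
    (g := i.left) ⟨⟨inferInstance, inferInstance⟩, inferInstance⟩ ‹_›
  haveI : IsIso ((Over.forget T).map i) := ‹IsIso i.left›
  exact isIso_of_reflects_iso i (Over.forget T)

end Groth.Agent.SecGerm
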